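import Cfsg.Agent.H553.RV.LinI

/-!
# S3849, linear and unitary groups: frames and the abelian group `A` (helper479)

`C : Cx ρ e X H`, `r` the smallest prime of `|H|`, `A = closure (gens H r)`.

* `Fm.span`, `Fm.zero_part` : the decomposition of `V` with respect to a frame;
* `Cx.A_triv` : `A` acts trivially on the fixed space of a `t`-frame (`t ≠ r`);
* `Cx.A_dicho` : an element of `A` is trivial or fixed point free on the blocks;
* `Cx.z_cen` : small `r`-elements which commute with the small `t`-elements, `t ≠ r`, centralise `A`.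
-/

set_option autoImplicit false
set_option linter.unusedSectionVars false

namespace Cfsg.Agent.H479.RM

open Module Cfsg.Agent.H167.OP Cfsg.Agent.H170.HL Cfsg.Agent.H556.HallRowAbs Cfsg.Agent.H556.HallLB
  Cfsg.Agent.H556.HallSmallCen Cfsg.Agent.H553.RV

section group

variable {Y : Type*} [Group Y]

/-- an `r`-element which centralises the elements of order `t` of an abelian group normalised by it centralises its
`t`-elements -/
theorem comm_of_omega {r t : ℕ} (hr : r.Prime) (ht : t.Prime) (hrt : r ≠ t) {A : Subgroup Y}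
    (hab : ∀ a ∈ A, ∀ b ∈ A, a * b = b * a) {z : Y} (hzA : ∀ a ∈ A, z * a * z⁻¹ ∈ A) (hz : z ^ r = 1)
    (hom : ∀ a ∈ A, a ^ t = 1 → z * a = a * z) {x : Y} (hx : x ∈ A) (hxt : ∃ k : ℕ, x ^ t ^ k = 1) :
    z * x = x * z := by
  by_contra hne
  set c := z * x * z⁻¹ * x⁻¹ with hc
  have hcA : c ∈ A := A.mul_mem (hzA x hx) (A.inv_mem hx)
  have hc1 : c ≠ 1 := by
    intro h
    apply hne
    rw [hc, mul_inv_eq_one, mul_inv_eq_iff_eq_mul] at h
    exact h
  have hcx : Commute c x := hab c hcA x hx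
  have hzx : z * x * z⁻¹ = c * x := by rw [hc]; group
  have hct : ∃ k : ℕ, c ^ t ^ k = 1 := by
    obtain ⟨k, hk⟩ := hxt
    refine ⟨k, ?_⟩
    have h1 : (z * x * z⁻¹) ^ t ^ k = 1 := by rw [conj_pow, hk, mul_one, mul_inv_cancel]
    rw [hzx, hcx.mul_pow, hk, mul_one] at h1
    exact h1
  obtain ⟨n, hn1, hn⟩ := exists_pow_prime hc1 hct
  have hzc : z * c ^ n = c ^ n * z := hom _ (A.pow_mem hcA n) hn
  have h1 : ∀ j : ℕ, z ^ j * x ^ n * (z ^ j)⁻¹ = (c ^ n) ^ j * x ^ n := by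
    intro j
    induction j with
    | zero => simp
    | succ j ih =>
      have h2 : z ^ (j + 1) * x ^ n * (z ^ (j + 1))⁻¹ = z * (z ^ j * x ^ n * (z ^ j)⁻¹) * z⁻¹ := by
        rw [pow_succ']; group
      have h3 : z * x ^ n * z⁻¹ = c ^ n * x ^ n := by rw [← conj_pow, hzx, hcx.mul_pow]
      have h4 : z * (c ^ n) ^ j = (c ^ n) ^ j * z := (show Commute z (c ^ n) from hzc).pow_right j
      rw [h2, ih]
      calc z * ((c ^ n) ^ j * x ^ n) * z⁻¹ = (z * (c ^ n) ^ j) * x ^ n * z⁻¹ := by group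
        _ = (c ^ n) ^ j * (z * x ^ n * z⁻¹) := by rw [h4]; group
        _ = (c ^ n) ^ (j + 1) * x ^ n := by rw [h3, pow_succ]; group
  have h2 := h1 r
  rw [hz, inv_one, mul_one, one_mul, right_eq_mul] at h2
  apply hn1
  have h3 : orderOf (c ^ n) ∣ 1 := by
    rw [← (Nat.coprime_primes hr ht).mpr hrt]
    exact Nat.dvd_gcd (orderOf_dvd_of_pow_eq_one h2) (orderOf_dvd_of_pow_eq_one hn)
  exact orderOf_eq_one_iff.mp (Nat.dvd_one.mp h3)

end group

variable {F : Type*} [Field F] {V : Type*} [AddCommGroup V] [Module F V] {Y : Type*} [Group Y]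
  {ρ : Representation F Y V} {e : ℕ → ℕ} {K : Subgroup Y} {t m : ℕ} {f : Fin m → Y}

/-- elements of a block are fixed by the other frame elements -/
theorem fixed_of_ne (hf : Fm ρ e K t m f) {i j : Fin m} (hij : i ≠ j) {w : V} (hw : w ∈ Rg ρ (f j)) :
    ρ (f i) w = w := by
  obtain ⟨v, rfl⟩ := mem_Rg.mp hw
  exact hf.ind i j hij v

/-- the blocks and the fixed space span `V` -/
theorem frame_span (htF : (t : F) ≠ 0) (hf : Fm ρ e K t m f) {W : Submodule F V} (h1 : ∀ i, Rg ρ (f i) ≤ W)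
    (h0 : ∀ v, (∀ i, ρ (f i) v = v) → v ∈ W) (v : V) : v ∈ W := by
  have key : ∀ n ≤ m, ∃ b : V, v - b ∈ W ∧ ∀ i : Fin m, (i : ℕ) < n → ρ (f i) b = b := by
    intro n
    induction n with
    | zero => intro _; exact ⟨v, by rw [sub_self]; exact W.zero_mem, fun i hi => absurd hi (Nat.not_lt_zero _)⟩
    | succ n ih =>
      intro hn
      obtain ⟨b, hb, hbi⟩ := ih (by omega)
      set i₀ : Fin m := ⟨n, by omega⟩ with hi₀
      obtain ⟨a, ha, b', hb', rfl⟩ := exists_decomp htF (hf.isZ i₀).1 b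
      refine ⟨b', ?_, fun i hi => ?_⟩
      · have h2 : v - b' = (v - (a + b')) + a := by abel
        rw [h2]
        exact W.add_mem hb (h1 i₀ ha)
      · by_cases hin : (i : ℕ) = n
        · have h4 : i = i₀ := Fin.ext hin
          rw [h4]; exact hb'
        · have h2 := hbi i (by omega)
          have h3 : ρ (f i) a = a := fixed_of_ne hf (fun h => hin (by rw [h])) ha
          rw [map_add, h3] at h2
          exact add_left_cancel h2
  obtain ⟨b, hb, hbi⟩ := key m le_rfl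
  have h2 : v = (v - b) + b := by abel
  rw [h2]
  exact W.add_mem hb (h0 b fun i => hbi i i.2)

/-- equality of group elements can be checked on the blocks and the fixed space -/
theorem eq_of_frame (hinj : Function.Injective ρ) (htF : (t : F) ≠ 0) (hf : Fm ρ e K t m f) {g h : Y}
    (h1 : ∀ i, ∀ w ∈ Rg ρ (f i), ρ g w = ρ h w) (h0 : ∀ v, (∀ i, ρ (f i) v = v) → ρ g v = ρ h v) : g = h := by
  apply hinj
  ext v
  have h2 := frame_span htF hf (W := LinearMap.ker (ρ g - ρ h)) (fun i w hw => by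
    rw [LinearMap.mem_ker, LinearMap.sub_apply, h1 i w hw, sub_self]) (fun v hv => by
    rw [LinearMap.mem_ker, LinearMap.sub_apply, h0 v hv, sub_self]) v
  rw [LinearMap.mem_ker, LinearMap.sub_apply, sub_eq_zero] at h2
  exact h2

/-- the part of `x` on the fixed space of a frame -/
theorem zero_part [FiniteDimensional F V] [Finite Y] {X : Subgroup Y} (D : LinDat ρ e X) (htF : (t : F) ≠ 0)
    (hf : Fm ρ e K t m f) {x : Y} (hc : ∀ i, f i * x = x * f i) {N : ℕ} (hx : x ^ N = 1) :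
    ∃ y : Y, y ^ N = 1 ∧ (∀ i, f i * y = y * f i) ∧ (∀ i, ∀ w ∈ Rg ρ (f i), ρ y w = w) ∧
      ∀ v, (∀ i, ρ (f i) v = v) → ρ y v = ρ x v := by
  have key : ∀ n ≤ m, ∃ y : Y, y ^ N = 1 ∧ (∀ i, f i * y = y * f i) ∧
      (∀ i : Fin m, (i : ℕ) < n → ∀ w ∈ Rg ρ (f i), ρ y w = w) ∧ ∀ v, (∀ i, ρ (f i) v = v) → ρ y v = ρ x v := by
    intro n
    induction n with
    | zero => intro _; exact ⟨x, hx, hc, fun i hi => absurd hi (Nat.not_lt_zero _), fun v _ => rfl⟩
    | succ n ih =>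
      intro hn
      obtain ⟨y, hyN, hyc, hyi, hy0⟩ := ih (by omega)
      set i₀ : Fin m := ⟨n, by omega⟩ with hi₀
      obtain ⟨x', h1, h2⟩ := D.rc t (f i₀) y htF (hf.isZ i₀).1 (hyc i₀)
      obtain ⟨g, hg⟩ : ∃ g, g = x'⁻¹ * y := ⟨_, rfl⟩
      have hin : ∀ w ∈ Rg ρ (f i₀), ρ g w = w := by
        intro w hw
        rw [hg, mul_ap, ← h1 w hw, inv_ap]
      have hout : ∀ w, ρ (f i₀) w = w → ρ g w = ρ y w := by
        intro w hw
        rw [hg, mul_ap]
        have h3 : ρ x' (ρ y w) = ρ y w := h2 _ (comm_fix (hyc i₀) hw)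
        conv_lhs => rw [← h3]
        rw [inv_ap]
      refine ⟨g, ?_, ?_, ?_, ?_⟩
      · apply D.row.inj
        rw [map_one]
        ext v
        obtain ⟨a, ha, b, hb, rfl⟩ := exists_decomp htF (hf.isZ i₀).1 v
        have h3 : ∀ j : ℕ, ρ (g ^ j) a = a := by
          intro j
          induction j with
          | zero => rw [pow_zero, one_ap]
          | succ j ihj => rw [pow_succ', mul_ap, ihj, hin a ha]
        have h4 : ∀ j : ℕ, ρ (g ^ j) b = ρ (y ^ j) b ∧ ρ (f i₀) (ρ (y ^ j) b) = ρ (y ^ j) b := by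
          intro j
          induction j with
          | zero => rw [pow_zero, pow_zero, one_ap]; exact ⟨rfl, hb⟩
          | succ j ihj =>
            rw [pow_succ', mul_ap, ihj.1, hout _ ihj.2, pow_succ', mul_ap]
            exact ⟨rfl, comm_fix (hyc i₀) ihj.2⟩
        rw [map_add, h3, (h4 N).1, hyN, one_ap]
        rfl
      · intro i
        apply D.row.inj
        ext v
        obtain ⟨a, ha, b, hb, rfl⟩ := exists_decomp htF (hf.isZ i₀).1 v
        have h3 : ρ (f i) a ∈ Rg ρ (f i₀) := comm_Rg (hf.comm i₀ i) ha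
        have h4 : ρ (f i₀) (ρ (f i) b) = ρ (f i) b := comm_fix (hf.comm i₀ i) hb
        rw [mul_ap, mul_ap, map_add, map_add, map_add, map_add, hin a ha, hout b hb, hin _ h3, hout _ h4,
          ← mul_ap, ← mul_ap, hyc i]
      · intro i hi w hw
        by_cases hin' : (i : ℕ) = n
        · have h4 : i = i₀ := Fin.ext hin'
          rw [h4] at hw
          exact hin w hw
        · rw [hout w (fixed_of_ne hf (fun h => hin' (by rw [← h])) hw), hyi i (by omega) w hw]
      · intro v hv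
        rw [hout v (hv i₀), hy0 v hv]
  obtain ⟨y, h1, h2, h3, h4⟩ := key m le_rfl
  exact ⟨y, h1, h2, fun i => h3 i i.2, h4⟩

variable [FiniteDimensional F V] [Finite Y] {X H : Subgroup Y}

/-- an element of prime power order commuting with a frame acts trivially on its fixed space -/
theorem triv_fix (C : Cx ρ e X H) {s t : ℕ} (hs : s.Prime) (hsH : s ∣ Nat.card H) (htF : (t : F) ≠ 0)
    (hst : e t ≤ e s) {m : ℕ} {f : Fin m → Y} (hf : Fm ρ e K t m f) {x : Y} (hc : ∀ i, f i * x = x * f i)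
    (hx : ∃ k : ℕ, x ^ s ^ k = 1) {v : V} (hv : ∀ i, ρ (f i) v = v) : ρ x v = v := by
  obtain ⟨k, hk⟩ := hx
  obtain ⟨y, hyN, hyc, hyi, hy0⟩ := zero_part C.D htF hf hc hk
  have h1 := hf.max (Rg ρ y) (by
    intro i w hw
    obtain ⟨u, rfl⟩ := mem_Rg.mp hw
    obtain ⟨a, ha, b, hb, rfl⟩ := exists_decomp htF (hf.isZ i).1 u
    have h2 : ρ y (a + b) - (a + b) = ρ y b - b := by
      rw [map_add, hyi i a ha]; abel
    rw [h2, map_sub, comm_fix (hyc i) hb, hb])
  have h2 : y = 1 := eq_one_of_small C.D.row hs (C.odd hs hsH) (C.ne hs hsH) ⟨k, hyN⟩ (by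
    rw [← finrank_Rg]; exact lt_of_lt_of_le h1 hst)
  rw [← hy0 v hv, h2, one_ap]

section A

variable {r : ℕ}

theorem A_le : Subgroup.closure (gens H r) ≤ H := by
  rw [Subgroup.closure_le]
  exact fun x hx => hx.1

theorem mem_gens {t : ℕ} (ht : t.Prime) (htH : t ∣ Nat.card H) (htr : t ≠ r) {x : Y} (hxH : x ∈ H)
    (hx : ∃ k : ℕ, x ^ t ^ k = 1) : x ∈ gens H r := ⟨hxH, t, ht, htH, htr, hx⟩

theorem A_comm (C : Cx ρ e X H) (hr : r.Prime) (hrH : r ∣ Nat.card H)
    (hmin : ∀ t : ℕ, t.Prime → t ∣ Nat.card H → r ≤ t) :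
    ∀ a ∈ Subgroup.closure (gens H r), ∀ b ∈ Subgroup.closure (gens H r), a * b = b * a :=
  comm_closure (C.gens_comm hr hrH hmin)

/-- the frame elements lie in `A` -/
theorem frame_mem {t : ℕ} (ht : t.Prime) (htH : t ∣ Nat.card H) (htr : t ≠ r) {m : ℕ} {f : Fin m → Y}
    (hf : Fm ρ e H t m f) (i : Fin m) : f i ∈ Subgroup.closure (gens H r) :=
  Subgroup.subset_closure (mem_gens ht htH htr (hf.mem i) ⟨1, by rw [pow_one]; exact (hf.isZ i).1⟩)

/-- `A` acts trivially on the fixed space of a `t`-frame -/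
theorem A_triv (C : Cx ρ e X H) (hr : r.Prime) (hrH : r ∣ Nat.card H)
    (hmin : ∀ t : ℕ, t.Prime → t ∣ Nat.card H → r ≤ t) {t : ℕ} (ht : t.Prime) (htH : t ∣ Nat.card H) (htr : t ≠ r)
    {m : ℕ} {f : Fin m → Y} (hf : Fm ρ e H t m f) {a : Y} (ha : a ∈ Subgroup.closure (gens H r)) {v : V}
    (hv : ∀ i, ρ (f i) v = v) : ρ a v = v := by
  induction ha using Subgroup.closure_induction with
  | mem x hx =>
    have hx' : x ∈ gens H r := hx
    obtain ⟨hxH, s, hs, hsH, hsr, hxs⟩ := hx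
    exact triv_fix C hs hsH (C.ne ht htH) (C.e_eq hr hrH hmin ht htH htr hs hsH hsr).le hf
      (fun i => A_comm C hr hrH hmin _ (frame_mem ht htH htr hf i) _ (Subgroup.subset_closure hx')) hxs hv
  | one => exact one_ap ρ v
  | mul x y _ _ ihx ihy => rw [mul_ap, ihy, ihx]
  | inv x _ ih =>
    conv_lhs => rw [← ih]
    rw [inv_ap]

/-- elements of `A` are trivial or fixed point free on the blocks -/
theorem A_dicho (C : Cx ρ e X H) (hr : r.Prime) (hrH : r ∣ Nat.card H)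
    (hmin : ∀ t : ℕ, t.Prime → t ∣ Nat.card H → r ≤ t) {t : ℕ} (ht : t.Prime) (htH : t ∣ Nat.card H) (htr : t ≠ r)
    {m : ℕ} {f : Fin m → Y} (hf : Fm ρ e H t m f) {a : Y} (ha : a ∈ Subgroup.closure (gens H r)) (i : Fin m) :
    (∀ w ∈ Rg ρ (f i), ρ a w = w) ∨ (∀ w ∈ Rg ρ (f i), ρ a w = w → w = 0) := by
  refine dicho C.D ht (C.odd ht htH) (C.ne ht htH) (hf.isZ i)
    (A_comm C hr hrH hmin _ (frame_mem ht htH htr hf i) _ ha) (k := Nat.card H) (C.hH.card_ne le_rfl) ?_
  exact congrArg Subtype.val (pow_card_eq_one' (x := (⟨a, A_le ha⟩ : H)))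

/-- elements of order `t` of `A` act on a block as a power of the frame element -/
theorem A_pow (C : Cx ρ e X H) (hr : r.Prime) (hrH : r ∣ Nat.card H)
    (hmin : ∀ t : ℕ, t.Prime → t ∣ Nat.card H → r ≤ t) {t : ℕ} (ht : t.Prime) (htH : t ∣ Nat.card H) (htr : t ≠ r)
    {m : ℕ} {f : Fin m → Y} (hf : Fm ρ e H t m f) {a : Y} (ha : a ∈ Subgroup.closure (gens H r)) (hat : a ^ t = 1)
    (i : Fin m) : ∃ j : ℕ, ∀ w ∈ Rg ρ (f i), ρ a w = ρ (f i ^ j) w := by
  have htF := C.ne ht htH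
  have hc := A_comm C hr hrH hmin _ (frame_mem ht htH htr hf i) _ ha
  obtain ⟨x', h1, h2⟩ := C.D.rc t (f i) a htF (hf.isZ i).1 hc
  have hpow : ∀ j : ℕ, ∀ w ∈ Rg ρ (f i), ρ (x' ^ j) w = ρ (a ^ j) w ∧ ρ (a ^ j) w ∈ Rg ρ (f i) := by
    intro j
    induction j with
    | zero => intro w hw; rw [pow_zero, pow_zero, one_ap]; exact ⟨rfl, hw⟩
    | succ j ih =>
      intro w hw
      obtain ⟨h3, h4⟩ := ih w hw
      rw [pow_succ', mul_ap, h3, h1 _ h4, pow_succ', mul_ap]
      exact ⟨rfl, comm_Rg hc h4⟩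
  have hpow' : ∀ j : ℕ, ∀ w, ρ (f i) w = w → ρ (x' ^ j) w = w := by
    intro j w hw
    induction j with
    | zero => rw [pow_zero, one_ap]
    | succ j ih => rw [pow_succ', mul_ap, ih, h2 w hw]
  have hx't : x' ^ t = 1 := by
    apply C.D.row.inj
    rw [map_one]
    ext v
    obtain ⟨b, hb, c, hcf, rfl⟩ := exists_decomp htF (hf.isZ i).1 v
    rw [map_add, (hpow t b hb).1, hpow' t c hcf, hat, one_ap]
    rfl
  have hxc : f i * x' = x' * f i := by
    apply C.D.row.inj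
    ext v
    obtain ⟨b, hb, c, hcf, rfl⟩ := exists_decomp htF (hf.isZ i).1 v
    rw [mul_ap, mul_ap, map_add, map_add, map_add, map_add, h1 b hb, h2 c hcf, hcf, h2 c hcf, h1 _ (map_Rg hb),
      ← mul_ap, hc, mul_ap]
  have hRg : Rg ρ x' ≤ Rg ρ (f i) := by
    intro w hw
    obtain ⟨v, rfl⟩ := mem_Rg.mp hw
    obtain ⟨b, hb, c, hcf, rfl⟩ := exists_decomp htF (hf.isZ i).1 v
    have h4 : ρ x' (b + c) - (b + c) = ρ a b - b := by
      rw [map_add, h1 b hb, h2 c hcf]; abel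
    rw [h4]
    exact Submodule.sub_mem _ (comm_Rg hc hb) hb
  obtain ⟨j, hj⟩ := mem_zpowers_of_Rg C.D.row ht (C.odd ht htH) htF (hf.isZ i) hx't hxc hRg
  exact ⟨j, fun w hw => by rw [← h1 w hw, hj]⟩

/-- **small `r`-elements centralise `A`** unless they move small elements -/
theorem z_cen (C : Cx ρ e X H) (hr : r.Prime) (hrH : r ∣ Nat.card H)
    (hmin : ∀ t : ℕ, t.Prime → t ∣ Nat.card H → r ≤ t) {z : Y} (hzH : z ∈ H) (hz : z ^ r = 1)
    (hcom : ∀ t : ℕ, t.Prime → t ∣ Nat.card H → t ≠ r → ∀ a ∈ H, IsZ ρ e t a → z * a = a * z) :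
    ∀ a ∈ Subgroup.closure (gens H r), z * a = a * z := by
  have hab := A_comm C hr hrH hmin
  have hn := (C.structure_min hr hrH hmin).2.1
  have hzA : ∀ a ∈ Subgroup.closure (gens H r), z * a * z⁻¹ ∈ Subgroup.closure (gens H r) := fun a ha =>
    (Subgroup.mem_normalizer_iff.mp (hn hzH) a).mp ha
  intro a ha
  induction ha using Subgroup.closure_induction with
  | mem x hx =>
    have hx' : x ∈ gens H r := hx
    obtain ⟨hxH, t, ht, htH, htr, hxt⟩ := hx
    refine comm_of_omega hr ht htr.symm hab hzA hz ?_ (Subgroup.subset_closure hx') hxt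
    intro a ha hat
    obtain ⟨m, f, hf⟩ := C.frame ht htH
    have hzf : ∀ i, z * f i = f i * z := fun i => hcom t ht htH htr _ (hf.mem i) (hf.isZ i)
    refine eq_of_frame C.D.row.inj (C.ne ht htH) hf (fun i w hw => ?_) fun v hv => ?_
    · obtain ⟨j, hj⟩ := A_pow C hr hrH hmin ht htH htr hf ha hat i
      have h1 : ρ z w ∈ Rg ρ (f i) := comm_Rg (hzf i).symm hw
      have h2 : z * f i ^ j = f i ^ j * z := (show Commute z (f i) from hzf i).pow_right j
      rw [mul_ap, mul_ap, hj w hw, hj _ h1, ← mul_ap, ← mul_ap, h2]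
    · have h1 : ∀ i, ρ (f i) (ρ z v) = ρ z v := fun i => comm_fix (hzf i).symm (hv i)
      rw [mul_ap, mul_ap, A_triv C hr hrH hmin ht htH htr hf ha hv, A_triv C hr hrH hmin ht htH htr hf ha h1]
  | one => rw [mul_one, one_mul]
  | mul x y _ _ ihx ihy => rw [← mul_assoc, ihx, mul_assoc, ihy, mul_assoc]
  | inv x _ ih => exact (show Commute z x from ih).inv_right

/-- small `r`-elements centralise `A` unless `e t = r`, `e r = r - 1` for a prime `t` of `|H|` -/
theorem z_cen' (C : Cx ρ e X H) (hr : r.Prime) (hrH : r ∣ Nat.card H)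
    (hmin : ∀ t : ℕ, t.Prime → t ∣ Nat.card H → r ≤ t)
    (hne : ∀ t : ℕ, t.Prime → t ∣ Nat.card H → t ≠ r → ¬ (e t = r ∧ e r = r - 1)) {z : Y} (hzH : z ∈ H)
    (hz : IsZ ρ e r z) : ∀ a ∈ Subgroup.closure (gens H r), z * a = a * z := by
  refine z_cen C hr hrH hmin hzH hz.1 fun t ht htH htr a haH ha => ?_
  rcases C.comm_or hr hrH ht htH (lt_of_le_of_ne (hmin t ht htH) htr.symm) with h | h
  · exact h z hzH hz a haH ha
  · exact absurd h (hne t ht htH htr)

end A

end Cfsg.Agent.H479.RM
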