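import Cfsg.Agent.H571.RM.Pred

/-!
# S3849: the `D₁`-lemma (helper479)

`H = A R` a Hall `π`-subgroup, `A` abelian normal of order prime to `r`, `H / A` an `r`-group, all `π`-subgroups of this shape.
If for every `X ≤ A` there is a subgroup `D` of `C(X)`, containing `X`, normalised by `N(X)`, of order prime to `r`, such that
`H` normalises `A ∩ D`, then `D_π` holds in every overgroup of `H`.
-/

set_option autoImplicit false

namespace Cfsg.Agent.H479.RM

open Subgroup Cfsg Cfsg.Agent.H988.CPi Cfsg.Agent.H571.DExt Cfsg.Agent.Solvable.SZ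
open scoped Pointwise

variable {π : Set ℕ} {G : Type*} [Group G] [Finite G]

theorem relIndex_sup_of_le_normalizer {A D : Subgroup G} (h : A ≤ normalizer (D : Set G)) :
    A.relIndex (A ⊔ D) = A.relIndex D := by
  set M := A ⊔ D with hM
  have hDM : D ≤ M := le_sup_right
  have hn : (D.subgroupOf M).Normal :=
    (normal_subgroupOf_iff_le_normalizer hDM).mpr (sup_le h le_normalizer)
  have h1 : A.subgroupOf M ⊔ D.subgroupOf M = ⊤ := by
    rw [← Subgroup.subgroupOf_sup le_sup_left hDM]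
    exact Subgroup.subgroupOf_self _
  have h2 := relIndex_sup' (A.subgroupOf M) (D.subgroupOf M)
  rw [h1, relIndex_top_right, relIndex_subgroupOf hDM] at h2
  exact h2

theorem mem_normalizer_of_conj_le {T : Subgroup G} {g : G} (h : ∀ x ∈ T, g * x * g⁻¹ ∈ T) :
    g ∈ normalizer (T : Set G) := by
  have h1 : MulAut.conj g • T ≤ T := by
    rintro _ ⟨x, hx, rfl⟩
    exact h x hx
  have h2 : MulAut.conj g • T = T := eq_of_le_of_card_ge h1 (by rw [card_conj_smul])
  rw [mem_normalizer_iff]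
  intro x
  refine ⟨fun hx => h x hx, fun hx => ?_⟩
  have hx' : g * x * g⁻¹ ∈ MulAut.conj g • T := by rw [h2]; exact hx
  obtain ⟨y, hy, hyx⟩ := hx'
  have h3 : g * y * g⁻¹ = g * x * g⁻¹ := hyx
  have h4 : y = x := mul_left_cancel (mul_right_cancel h3)
  rw [← h4]; exact hy

theorem conj_smul_eq_of_mem {T : Subgroup G} {g : G} (h : g ∈ normalizer (T : Set G)) : MulAut.conj g • T = T := by
  refine eq_of_le_of_card_ge ?_ (by rw [card_conj_smul])
  rintro _ ⟨x, hx, rfl⟩
  exact (mem_normalizer_iff.mp h x).mp hx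

omit [Finite G] in
theorem comm_nilp (A : Subgroup G) (h : ∀ a ∈ A, ∀ b ∈ A, a * b = b * a) : Group.IsNilpotent A := by
  have : ∀ a b : A, a * b = b * a := fun a b => Subtype.ext (h a a.2 b b.2)
  let inst : CommGroup A := { (inferInstance : Group A) with mul_comm := this }
  exact CommGroup.isNilpotent

/-- a subgroup `X` with `r`-quotient and order prime to `r` has an `r`-complement -/
theorem exists_compl {r : ℕ} (hr : r.Prime) {K X : Subgroup G} (hXK : X ≤ K)
    (hidx : ∀ p : ℕ, p.Prime → p ∣ X.relIndex K → p = r) :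
    ∃ R ≤ K, IsPGroup r R ∧ X ⊔ R = K := by
  have := Fact.mk hr
  obtain ⟨S⟩ : Nonempty (Sylow r K) := inferInstance
  refine ⟨(S : Subgroup K).map K.subtype, map_subtype_le _, S.isPGroup'.map _, ?_⟩
  have hRK : (S : Subgroup K).map K.subtype ≤ K := map_subtype_le _
  refine le_antisymm (sup_le hXK hRK) ?_
  rw [← relIndex_eq_one]
  by_contra hne
  obtain ⟨p, hp, hpd⟩ := Nat.exists_prime_and_dvd hne
  have h1 : p = r := hidx p hp (hpd.trans (relIndex_dvd_of_le_left K le_sup_left))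
  have h2 : p ∣ ((S : Subgroup K).map K.subtype).relIndex K := hpd.trans (relIndex_dvd_of_le_left K le_sup_right)
  rw [relIndex, subgroupOf, comap_map_eq_self_of_injective K.subtype_injective, h1] at h2
  exact S.not_dvd_index h2

/-- the `D₁`-lemma, core -/
theorem le_conj_of_maximal {r : ℕ} (hr : r.Prime) {H A : Subgroup G} (hH : IsPiHall π H) (hAH : A ≤ H)
    (hab : ∀ a ∈ A, ∀ b ∈ A, a * b = b * a) (hrA : ¬ r ∣ Nat.card A)
    (hidx : ∀ p : ℕ, p.Prime → p ∣ A.relIndex H → p = r) {P X D : Subgroup G} (hP : Maximal (IsPiSubgroup π) P)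
    (hXA : X ≤ A) (hXP : X ≤ P) (hPX : P ≤ normalizer (X : Set G))
    (hXi : ∀ p : ℕ, p.Prime → p ∣ X.relIndex P → p = r) (hXD : X ≤ D) (hDX : ∀ d ∈ D, ∀ x ∈ X, d * x = x * d)
    (hND : normalizer (X : Set G) ≤ normalizer (D : Set G)) (hrD : ¬ r ∣ Nat.card D)
    (hHD : H ≤ normalizer ((A ⊓ D : Subgroup G) : Set G)) : ∃ g : G, P ≤ MulAut.conj g • H := by
  have := Fact.mk hr
  -- `τ`
  have hAτ : PiN {p | p ∈ π ∧ p ≠ r} (Nat.card A) := by
    intro p hp hd
    refine ⟨hH.1 p hp (hd.trans (card_dvd_of_le hAH)), ?_⟩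
    rintro rfl
    exact hrA hd
  have hAi : PiN' {p | p ∈ π ∧ p ≠ r} A.index := by
    intro p hp hpτ hd
    rw [← relIndex_mul_index hAH] at hd
    rcases hp.dvd_mul.mp hd with h | h
    · exact hpτ.2 (hidx p hp h)
    · exact hH.2 p hp hpτ.1 h
  set B := A ⊓ D with hB
  have hBA : B ≤ A := inf_le_left
  have hBD : B ≤ D := inf_le_right
  have hAX : A ≤ normalizer (X : Set G) := by
    intro a ha
    apply mem_normalizer_of_conj_le
    intro x hx
    rw [hab a ha x (hXA hx), mul_inv_cancel_right]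
    exact hx
  have hADn : A ≤ normalizer (D : Set G) := hAX.trans hND
  have hBi : PiN' {p | p ∈ π ∧ p ≠ r} (B.relIndex D) := by
    rw [hB, inf_relIndex_right, ← relIndex_sup_of_le_normalizer hADn]
    refine hAi.of_dvd ⟨_, (relIndex_mul_index (le_sup_left : A ≤ A ⊔ D)).symm⟩
  have hBτ : PiN {p | p ∈ π ∧ p ≠ r} (Nat.card B) := hAτ.of_dvd (card_dvd_of_le hBA)
  -- the complement
  obtain ⟨R, hRP, hRr, hXR⟩ := exists_compl hr hXP hXi
  -- Frattini in the normaliser of `D`
  set E := normalizer (D : Set G) with hE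
  have hDE : D ≤ E := le_normalizer
  have hBE : B ≤ E := hBD.trans hDE
  have nD : (D.subgroupOf E).Normal := (normal_subgroupOf_iff_le_normalizer hDE).mpr le_rfl
  have hBD' : B.subgroupOf E ≤ D.subgroupOf E := subgroupOf_mono _ hBD
  have hBi' : PiN' {p | p ∈ π ∧ p ≠ r} ((B.subgroupOf E).relIndex (D.subgroupOf E)) := by
    rw [relIndex_subgroupOf hDE]; exact hBi
  have hBτ' : PiN {p | p ∈ π ∧ p ≠ r} (Nat.card (B.subgroupOf E)) := by rw [card_subgroupOf _ _ hBE]; exact hBτ
  have hDC : IsCPiGroup {p | p ∈ π ∧ p ≠ r} (D.subgroupOf E) := by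
    have h1 : IsPiHall {p | p ∈ π ∧ p ≠ r} ((B.subgroupOf E).subgroupOf (D.subgroupOf E)) := by
      refine ⟨?_, hBi'⟩
      have : PiN {p | p ∈ π ∧ p ≠ r} (Nat.card ((B.subgroupOf E).subgroupOf (D.subgroupOf E))) := by
        rw [card_subgroupOf _ _ hBD']; exact hBτ'
      exact this
    refine (dom_of_nilpotent h1 (comm_nilp _ ?_)).cpi
    intro a ha b hb
    exact Subtype.ext (Subtype.ext (hab _ (hBA ha) _ (hBA hb)))
  have hfr := sup_normalizer (D.subgroupOf E) ⊤ (B.subgroupOf E) le_top hBD' hBτ' hBi' hDC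
  rw [inf_top_eq] at hfr
  set N := normalizer ((B.subgroupOf E : Subgroup E) : Set E) with hN
  have hNi : ¬ r ∣ N.index := by
    have h1 := relIndex_sup' N (D.subgroupOf E)
    rw [sup_comm, hfr, relIndex_top_right] at h1
    rw [h1]
    intro h
    have h2 := h.trans (relIndex_dvd_card N (D.subgroupOf E))
    rw [card_subgroupOf _ _ hDE] at h2
    exact hrD h2
  have hRE : R ≤ E := hRP.trans (hPX.trans hND)
  have hR' : IsPGroup r (R.subgroupOf E) := hRr.comap_of_injective E.subtype E.subtype_injective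
  obtain ⟨e₀, he₀⟩ := hR'.nonempty_fixed_point_of_prime_not_dvd_card (E ⧸ N) (by
    have : Nat.card (E ⧸ N) = N.index := rfl
    rw [this]; exact hNi)
  obtain ⟨e, rfl⟩ := QuotientGroup.mk_surjective e₀
  have he : ∀ y ∈ R.subgroupOf E, e⁻¹ * y * e ∈ N := by
    intro y hy
    have h1 : (QuotientGroup.mk (y * e) : E ⧸ N) = QuotientGroup.mk e := he₀ ⟨y, hy⟩
    rw [eq_comm, QuotientGroup.eq] at h1
    rwa [← mul_assoc] at h1
  obtain ⟨d, hd, n, hn, hdn⟩ : ∃ d ∈ D.subgroupOf E, ∃ n ∈ N, d * n = e := by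
    have h1 : e ∈ D.subgroupOf E ⊔ N := by rw [hfr]; exact mem_top _
    exact mem_sup_of_normal_left.mp h1
  -- `T`
  set T := MulAut.conj (d : G) • B with hT
  have hnB : MulAut.conj (n : G) • B = B := by
    apply conj_smul_eq_of_mem
    apply mem_normalizer_of_conj_le
    intro b hb
    exact (mem_normalizer_iff.mp hn ⟨b, hBE hb⟩).mp hb
  have heB : MulAut.conj (e : G) • B = T := by
    rw [← hdn]
    show MulAut.conj ((d : G) * n) • B = T
    rw [map_mul, mul_smul, hnB]
  have hRT : R ≤ normalizer (T : Set G) := by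
    intro y hy
    apply mem_normalizer_of_conj_le
    intro x hx
    rw [← heB] at hx ⊢
    obtain ⟨b, hb, rfl⟩ := hx
    have h1 := he ⟨y, hRE hy⟩ hy
    have h2 := (mem_normalizer_iff.mp h1 ⟨b, hBE hb⟩).mp hb
    refine ⟨_, h2, ?_⟩
    show (e : G) * ((e : G)⁻¹ * y * e * b * ((e : G)⁻¹ * y * e)⁻¹) * (e : G)⁻¹ = y * ((e : G) * b * (e : G)⁻¹) * y⁻¹
    group
  have hTD : T ≤ D := by
    rintro _ ⟨b, hb, rfl⟩
    exact D.mul_mem (D.mul_mem hd (hBD hb)) (D.inv_mem hd)
  have hXT : X ≤ normalizer (T : Set G) := by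
    intro x hx
    apply mem_normalizer_of_conj_le
    intro t ht
    rw [← hDX t (hTD ht) x hx, mul_inv_cancel_right]
    exact ht
  have hPT : P ≤ normalizer (T : Set G) := by rw [← hXR]; exact sup_le hXT hRT
  have hTτ : PiN {p | p ∈ π ∧ p ≠ r} (Nat.card T) := by rw [hT, card_conj_smul]; exact hBτ
  have hTP : T ≤ P := le_of_maximal hP hPT fun p hp hd => (hTτ p hp hd).1
  have hXTle : X ≤ T := by
    intro x hx
    refine ⟨x, ⟨hXA hx, hXD hx⟩, ?_⟩
    show (d : G) * x * (d : G)⁻¹ = x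
    rw [hDX d hd x hx, mul_inv_cancel_right]
  have hXT1 : X = T := by
    refine le_antisymm hXTle ?_
    rw [← relIndex_eq_one]
    by_contra hne
    obtain ⟨p, hp, hpd⟩ := Nat.exists_prime_and_dvd hne
    have h1 : p ≠ r := (hTτ p hp (hpd.trans (relIndex_dvd_card X T))).2
    apply h1
    apply hXi p hp
    rw [← relIndex_mul_relIndex X T P hXTle hTP]
    exact hpd.mul_right _
  have hXB : X = B := by
    refine eq_of_le_of_card_ge (fun x hx => ⟨hXA hx, hXD hx⟩) ?_
    rw [hXT1, hT, card_conj_smul]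
  have hHX : H ≤ normalizer (X : Set G) := by rw [hXB]; exact hHD
  by_cases hrπ : r ∈ π
  · -- Sylow in the normaliser of `X`
    set N₁ := normalizer (X : Set G) with hN₁
    obtain ⟨S₀⟩ : Nonempty (Sylow r H) := inferInstance
    set S := (S₀ : Subgroup H).map H.subtype with hS
    have hSH : S ≤ H := map_subtype_le _
    have hSN : S ≤ N₁ := hSH.trans hHX
    have hSr : IsPGroup r S := S₀.isPGroup'.map _
    have hSi : ¬ r ∣ S.index := by
      rw [← relIndex_mul_index hSH]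
      intro h
      rcases hr.dvd_mul.mp h with h | h
      · rw [relIndex, subgroupOf, hS, comap_map_eq_self_of_injective H.subtype_injective] at h
        exact S₀.not_dvd_index h
      · exact hH.2 r hr hrπ h
    have hSh : IsPiHall {r} (S.subgroupOf N₁) := by
      refine ⟨?_, ?_⟩
      · have : PiN {r} (Nat.card (S.subgroupOf N₁)) := by
          rw [card_subgroupOf _ _ hSN]
          obtain ⟨k, hk⟩ := IsPGroup.iff_card.mp hSr
          intro p hp hd
          rw [hk] at hd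
          exact (Nat.prime_dvd_prime_iff_eq hp hr).mp (hp.dvd_of_dvd_pow hd)
        exact this
      · intro p hp hpr hd
        rw [Set.mem_singleton_iff.mp hpr] at hd
        exact hSi (hd.trans ⟨_, (relIndex_mul_index hSN).symm⟩)
    have hRN : R ≤ N₁ := hRP.trans hPX
    obtain ⟨m, hm⟩ := le_conj_nilpotent hSh (hSr.comap_of_injective N₁.subtype N₁.subtype_injective).isNilpotent
      (K := R.subgroupOf N₁) (by
        rw [card_subgroupOf _ _ hRN]
        obtain ⟨k, hk⟩ := IsPGroup.iff_card.mp hRr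
        intro p hp hd
        rw [hk] at hd
        exact (Nat.prime_dvd_prime_iff_eq hp hr).mp (hp.dvd_of_dvd_pow hd))
    refine ⟨(m : G), ?_⟩
    rw [← hXR]
    refine sup_le ?_ ?_
    · rw [← conj_smul_eq_of_mem (T := X) (g := (m : G)) m.2]
      exact smul_mono_right _ (hXA.trans hAH)
    · intro y hy
      obtain ⟨s, hs, hsy⟩ := hm (show (⟨y, hRN hy⟩ : N₁) ∈ R.subgroupOf N₁ from hy)
      exact ⟨s, hSH hs, congrArg Subtype.val hsy⟩
  · refine ⟨1, ?_⟩
    rw [map_one, one_smul]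
    have h1 : X.relIndex P = 1 := by
      by_contra hne
      obtain ⟨p, hp, hpd⟩ := Nat.exists_prime_and_dvd hne
      have h2 : p = r := hXi p hp hpd
      apply hrπ
      rw [← h2]
      exact hP.1 p hp (hpd.trans (relIndex_dvd_card X P))
    exact (relIndex_eq_one.mp h1).trans (hXA.trans hAH)

/-- **the `D₁`-lemma** for the whole group -/
theorem dom_of_D {r : ℕ} (hr : r.Prime) {H A : Subgroup G} (hH : IsPiHall π H) (hAH : A ≤ H)
    (hab : ∀ a ∈ A, ∀ b ∈ A, a * b = b * a) (hrA : ¬ r ∣ Nat.card A)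
    (hidx : ∀ p : ℕ, p.Prime → p ∣ A.relIndex H → p = r)
    (hst : ∀ K : Subgroup G, PiN π (Nat.card K) → ∃ X ≤ K, K ≤ normalizer (X : Set G) ∧ ¬ r ∣ Nat.card X ∧
      ∀ p : ℕ, p.Prime → p ∣ X.relIndex K → p = r)
    (hD : ∀ X ≤ A, ∃ D : Subgroup G, X ≤ D ∧ (∀ d ∈ D, ∀ x ∈ X, d * x = x * d) ∧
      normalizer (X : Set G) ≤ normalizer (D : Set G) ∧ ¬ r ∣ Nat.card D ∧
      H ≤ normalizer ((A ⊓ D : Subgroup G) : Set G)) : Dom π G := by
  refine ⟨H, hH, fun K hK => ?_⟩
  obtain ⟨P, hKP, hP⟩ := Finite.exists_le_maximal (p := IsPiSubgroup π) (a := K) hK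
  obtain ⟨X₀, hX₀P, hPX₀, hrX₀, hX₀i⟩ := hst P hP.1
  have hAh : IsPiHall {p | p ∈ π ∧ p ≠ r} A := by
    refine ⟨?_, ?_⟩
    · intro p hp hd
      refine ⟨hH.1 p hp (hd.trans (card_dvd_of_le hAH)), ?_⟩
      rintro rfl
      exact hrA hd
    · intro p hp hpτ hd
      rw [← relIndex_mul_index hAH] at hd
      rcases hp.dvd_mul.mp hd with h | h
      · exact hpτ.2 (hidx p hp h)
      · exact hH.2 p hp hpτ.1 h
  obtain ⟨x, hx⟩ := le_conj_nilpotent hAh (comm_nilp A hab) (K := X₀) (by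
    intro p hp hd
    refine ⟨hP.1 p hp (hd.trans (card_dvd_of_le hX₀P)), ?_⟩
    rintro rfl
    exact hrX₀ hd)
  set P₁ := MulAut.conj x⁻¹ • P with hP₁
  set X := MulAut.conj x⁻¹ • X₀ with hX
  have hback : ∀ T : Subgroup G, MulAut.conj x • MulAut.conj x⁻¹ • T = T := by
    intro T
    rw [← mul_smul, ← map_mul, mul_inv_cancel, map_one, one_smul]
  have hXA : X ≤ A := by
    have h1 : MulAut.conj x⁻¹ • X₀ ≤ MulAut.conj x⁻¹ • (MulAut.conj x • A) := smul_mono_right _ hx
    rwa [← mul_smul, ← map_mul, inv_mul_cancel, map_one, one_smul] at h1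
  have hP₁m : Maximal (IsPiSubgroup π) P₁ := by
    refine ⟨?_, fun Y hY hle => ?_⟩
    · have h1 : PiN π (Nat.card P₁) := by rw [hP₁, card_conj_smul]; exact hP.1
      exact h1
    · have h1 : P ≤ MulAut.conj x • Y := by
        have := smul_mono_right (MulAut.conj x) hle
        rwa [hP₁, hback] at this
      have h2 : IsPiSubgroup π (MulAut.conj x • Y : Subgroup G) := by
        have h3 : PiN π (Nat.card (MulAut.conj x • Y : Subgroup G)) := by rw [card_conj_smul]; exact hY
        exact h3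
      have h3 := smul_mono_right (MulAut.conj x⁻¹) (hP.2 h2 h1)
      rwa [← mul_smul, ← map_mul, inv_mul_cancel, map_one, one_smul] at h3
  obtain ⟨D, h1, h2, h3, h4, h5⟩ := hD X hXA
  obtain ⟨g, hg⟩ := le_conj_of_maximal hr hH hAH hab hrA hidx hP₁m hXA (smul_mono_right _ hX₀P) (by
      intro y hy
      obtain ⟨p, hp, rfl⟩ := hy
      apply mem_normalizer_of_conj_le
      rintro _ ⟨z, hz, rfl⟩
      refine ⟨p * z * p⁻¹, (mem_normalizer_iff.mp (hPX₀ hp) z).mp hz, ?_⟩
      show x⁻¹ * (p * z * p⁻¹) * x⁻¹⁻¹ = (x⁻¹ * p * x⁻¹⁻¹) * (x⁻¹ * z * x⁻¹⁻¹) * (x⁻¹ * p * x⁻¹⁻¹)⁻¹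
      group)
    (by
      intro p hp hd
      rw [hX, hP₁, relIndex_pointwise_smul] at hd
      exact hX₀i p hp hd) h1 h2 h3 h4 h5
  refine ⟨x * g, hKP.trans ?_⟩
  rw [map_mul, mul_smul, ← hback P]
  exact smul_mono_right _ hg

/-- **the `D₁`-lemma** for the overgroups of `H` -/
theorem domIn_of_D {r : ℕ} (hr : r.Prime) {M H A : Subgroup G} (hH : IsPiHall π H) (hHM : H ≤ M) (hAH : A ≤ H)
    (hab : ∀ a ∈ A, ∀ b ∈ A, a * b = b * a) (hrA : ¬ r ∣ Nat.card A)
    (hidx : ∀ p : ℕ, p.Prime → p ∣ A.relIndex H → p = r)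
    (hst : ∀ K ≤ M, PiN π (Nat.card K) → ∃ X ≤ K, K ≤ normalizer (X : Set G) ∧ ¬ r ∣ Nat.card X ∧
      ∀ p : ℕ, p.Prime → p ∣ X.relIndex K → p = r)
    (hD : ∀ X ≤ A, ∃ D : Subgroup G, X ≤ D ∧ (∀ d ∈ D, ∀ x ∈ X, d * x = x * d) ∧
      normalizer (X : Set G) ≤ normalizer (D : Set G) ∧ ¬ r ∣ Nat.card D ∧
      H ≤ normalizer ((A ⊓ D : Subgroup G) : Set G)) : Cfsg.Agent.H571.RM.DomIn π M H := by
  refine Cfsg.Agent.H571.RM.DomIn.of_dom hH hHM ?_
  have hAM : A ≤ M := hAH.trans hHM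
  refine dom_of_D (H := H.subgroupOf M) (A := A.subgroupOf M) hr (Cfsg.Agent.H571.RM.hall_subgroupOf hH hHM)
    (subgroupOf_mono _ hAH) ?_ ?_ ?_ ?_ ?_
  · intro a ha b hb
    exact Subtype.ext (hab a ha b hb)
  · rw [card_subgroupOf _ _ hAM]; exact hrA
  · intro p hp hd
    rw [relIndex_subgroupOf hHM] at hd
    exact hidx p hp hd
  · intro K hK
    obtain ⟨X, hXK, h1, h2, h3⟩ := hst (K.map M.subtype) (map_subtype_le K)
      (by rw [card_map_of_injective M.subtype_injective]; exact hK)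
    have hXM : X ≤ M := hXK.trans (map_subtype_le K)
    have hKs : (K.map M.subtype).subgroupOf M = K := by
      rw [subgroupOf, comap_map_eq_self_of_injective M.subtype_injective]
    refine ⟨X.subgroupOf M, ?_, ?_, ?_, ?_⟩
    · rw [← hKs]; exact subgroupOf_mono _ hXK
    · intro k hk
      apply mem_normalizer_of_conj_le
      intro x hx
      exact (mem_normalizer_iff.mp (h1 ⟨k, hk, rfl⟩) (x : G)).mp hx
    · rw [card_subgroupOf _ _ hXM]; exact h2
    · intro p hp hd
      apply h3 p hp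
      rw [← relIndex_subgroupOf (map_subtype_le K), hKs]
      exact hd
  · intro X hXA
    obtain ⟨D, h1, h2, h3, h4, h5⟩ := hD (X.map M.subtype) (by
      rintro _ ⟨x, hx, rfl⟩
      exact hXA hx)
    refine ⟨D.subgroupOf M, ?_, ?_, ?_, ?_, ?_⟩
    · intro x hx
      exact h1 ⟨x, hx, rfl⟩
    · intro d hd x hx
      exact Subtype.ext (h2 d hd x ⟨x, hx, rfl⟩)
    · intro g hg
      have hg' : (g : G) ∈ normalizer ((X.map M.subtype : Subgroup G) : Set G) := by
        apply mem_normalizer_of_conj_le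
        rintro _ ⟨x, hx, rfl⟩
        exact ⟨g * x * g⁻¹, (mem_normalizer_iff.mp hg x).mp hx, rfl⟩
      apply mem_normalizer_of_conj_le
      intro d hd
      exact (mem_normalizer_iff.mp (h3 hg') (d : G)).mp hd
    · intro hd
      apply h4
      refine hd.trans ?_
      rw [← card_map_of_injective M.subtype_injective, subgroupOf_map_subtype]
      exact card_dvd_of_le inf_le_left
    · intro g hg
      apply mem_normalizer_of_conj_le
      intro x hx
      exact (mem_normalizer_iff.mp (h5 hg) (x : G)).mp hx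

end Cfsg.Agent.H479.RM
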