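import Cfsg.Agent.H479.RM.Geo
import Cfsg.Agent.H571.RM.RowC
import Cfsg.Agent.H553.RV.ETwo

/-!
# S3849, P3 gamma: linear and unitary groups, `e r = r - 1` (helper479)

* `triv_block'`, `key` : elements of order `r` of `H` which commute with `X₀ ≤ A` and are trivial on `C_V(X₀)` are trivial;
* `domIn_X` : case `e t = r`: `D_π` for all overgroups of `H ∩ X` in `X`;
* `her_of_domIn` : the same for a quotient of `X`;
* `rowM_gamma` : **the row**.
-/

set_option autoImplicit false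
set_option linter.unusedSectionVars false

namespace Cfsg.Agent.H479.RM

open Module Cfsg Cfsg.Agent.H167.OP Cfsg.Agent.H170.HL Cfsg.Agent.H556.HallRowAbs Cfsg.Agent.H556.HallLB
  Cfsg.Agent.H556.HallSmallCen Cfsg.Agent.H553.RV Cfsg.Agent.H988.CPi Cfsg.Agent.H571.DExt Cfsg.Agent.Solvable.SZ
  Cfsg.Agent.H571.RM
open scoped Pointwise

universe u

section geo

variable {F : Type*} [Field F] {V : Type*} [AddCommGroup V] [Module F V] {Y : Type*} [Group Y]
  {ρ : Representation F Y V} {e : ℕ → ℕ} [FiniteDimensional F V] [Finite Y] {X H : Subgroup Y} {r t m : ℕ}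
  {f : Fin m → Y}

/-- elements of order `r` of `H` commuting with an element of `A` which is nontrivial on a block are trivial on the block -/
theorem triv_block' (C : Cx ρ e X H) (hr : r.Prime) (hrH : r ∣ Nat.card H)
    (hmin : ∀ t : ℕ, t.Prime → t ∣ Nat.card H → r ≤ t) (ht : t.Prime) (htH : t ∣ Nat.card H) (htr : t ≠ r)
    (het : e t = r) (her : e r = r - 1) (hf : Fm ρ e H t m f) {g : Y} (hgH : g ∈ H) (hg : g ^ r = 1) (i : Fin m)
    {a : Y} (ha : a ∈ Subgroup.closure (gens H r)) (hga : a * g = g * a) (hai : ¬ ∀ w ∈ Rg ρ (f i), ρ a w = w) :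
    ∀ w ∈ Rg ρ (f i), ρ g w = w := by
  obtain ⟨hAH, hn, hab, hrA, hidx⟩ := C.structure_min hr hrH hmin
  have htF := C.ne ht htH
  have hrt : r < t := lt_of_le_of_ne (hmin t ht htH) htr.symm
  have hgen := C.gen hr hrH ht htH hrt
  have hm : m < r := by
    have := blocks_lt C hr hrH hmin ht htH htr het her hf
    omega
  have hdW : finrank F (Rg ρ (f i)) = r := by rw [finrank_Rg, (hf.isZ i).2, het]
  have hfa : f i * a = a * f i := hab _ (frame_mem ht htH htr hf i) _ ha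
  -- the restriction of `a`
  obtain ⟨a', h1, h2⟩ := C.D.rc t (f i) a htF (hf.isZ i).1 hfa
  have hst : ∀ w ∈ Rg ρ (f i), ρ g w ∈ Rg ρ (f i) := St_block C hr hrH hmin ht htH htr hm hf hgH i
  have hstF : ∀ v, ρ (f i) v = v → ρ (f i) (ρ g v) = ρ g v := by
    intro v hv
    obtain ⟨l, hl⟩ := norm_atom C.D C.hH ht (C.odd ht htH) htF hgen (hf.isZ i) (hf.mem i) (H.inv_mem hgH)
      (St_block C hr hrH hmin ht htH htr hm hf (H.inv_mem hgH) i)
    have h1 : f i * g = g * f i ^ l := by rw [← hl]; group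
    have h2 : ∀ n : ℕ, ρ (f i ^ n) v = v := by
      intro n
      induction n with
      | zero => rw [pow_zero, one_ap]
      | succ n ih => rw [pow_succ', mul_ap, ih, hv]
    rw [← mul_ap, h1, mul_ap, h2]
  have hga' : a' * g = g * a' := by
    apply C.D.row.inj
    ext v
    obtain ⟨b, hb, c, hcf, rfl⟩ := exists_decomp htF (hf.isZ i).1 v
    rw [mul_ap, mul_ap, map_add, map_add, map_add, map_add, h1 b hb, h2 c hcf, h1 _ (hst b hb), h2 _ (hstF c hcf),
      ← mul_ap, hga, mul_ap]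
  have hapow : ∀ n : ℕ, ∀ w ∈ Rg ρ (f i), ρ (a' ^ n) w = ρ (a ^ n) w ∧ ρ (a ^ n) w ∈ Rg ρ (f i) := by
    intro n w hw
    induction n with
    | zero => rw [pow_zero, pow_zero, one_ap]; exact ⟨rfl, hw⟩
    | succ n ih =>
      rw [pow_succ', mul_ap, ih.1, h1 _ ih.2, pow_succ', mul_ap]
      exact ⟨rfl, comm_Rg hfa ih.2⟩
  have hapow' : ∀ n : ℕ, ∀ v, ρ (f i) v = v → ρ (a' ^ n) v = v := by
    intro n v hv
    induction n with
    | zero => rw [pow_zero, one_ap]
    | succ n ih => rw [pow_succ', mul_ap, ih, h2 v hv]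
  have haN : a ^ Nat.card (Subgroup.closure (gens H r)) = 1 :=
    congrArg Subtype.val (pow_card_eq_one' (x := (⟨a, ha⟩ : Subgroup.closure (gens H r))))
  have ha'N : a' ^ Nat.card (Subgroup.closure (gens H r)) = 1 := by
    apply C.D.row.inj
    rw [map_one]
    ext v
    obtain ⟨b, hb, c, hcf, rfl⟩ := exists_decomp htF (hf.isZ i).1 v
    rw [map_add, (hapow _ b hb).1, hapow' _ c hcf, haN, one_ap]
    rfl
  have ha'1 : a' ≠ 1 := by
    rintro rfl
    apply hai
    intro w hw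
    rw [← h1 w hw, one_ap]
  -- a power of prime order
  have hoa : orderOf a' ≠ 1 := fun h => ha'1 (orderOf_eq_one_iff.mp h)
  obtain ⟨s, hs, hso⟩ := Nat.exists_prime_and_dvd hoa
  have hsA : s ∣ Nat.card (Subgroup.closure (gens H r)) := hso.trans (orderOf_dvd_of_pow_eq_one ha'N)
  have hsH : s ∣ Nat.card H := hsA.trans (Subgroup.card_dvd_of_le hAH)
  have hsr : s ≠ r := by
    rintro rfl
    exact hrA hsA
  have hsF := C.ne hs hsH
  obtain ⟨k, hk⟩ := hso
  obtain ⟨b, hb⟩ : ∃ b, b = a' ^ k := ⟨_, rfl⟩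
  have hbs : b ^ s = 1 := by rw [hb, ← pow_mul, mul_comm, ← hk, pow_orderOf_eq_one]
  have hb1 : b ≠ 1 := by
    intro h
    rw [hb] at h
    have h3 := orderOf_dvd_of_pow_eq_one h
    have h4 : 0 < orderOf a' := orderOf_pos a'
    rw [hk] at h3 h4
    have h5 : 0 < k := Nat.pos_of_mul_pos_left h4
    have h6 := Nat.le_of_dvd h5 h3
    have h7 := hs.two_le
    nlinarith
  have hRa : Rg ρ a' ≤ Rg ρ (f i) := by
    intro w hw
    obtain ⟨v, rfl⟩ := mem_Rg.mp hw
    obtain ⟨b, hb, c, hcf, rfl⟩ := exists_decomp htF (hf.isZ i).1 v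
    have h4 : ρ a' (b + c) - (b + c) = ρ a b - b := by
      rw [map_add, h1 b hb, h2 c hcf]; abel
    rw [h4]
    exact Submodule.sub_mem _ (comm_Rg hfa hb) hb
  have hRb : Rg ρ b ≤ Rg ρ (f i) := by rw [hb]; exact (Rg_pow_le a' k).trans hRa
  have hest : e t = e s := C.e_eq hr hrH hmin ht htH htr hs hsH hsr
  have hRb' : Rg ρ b = Rg ρ (f i) := by
    apply Submodule.eq_of_le_of_finrank_le hRb
    rw [hdW, finrank_Rg, ← het, hest]
    exact le_rk_of_ne C.D.row hs (C.odd hs hsH) hsF hbs hb1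
  have hbZ : IsZ ρ e s b := ⟨hbs, by rw [← finrank_Rg, hRb', hdW, ← hest, het]⟩
  -- the frame for `s`
  obtain ⟨m', f', hf'⟩ := C.frame hs hsH
  obtain ⟨j, hj⟩ := C.atom_st hr hrH hmin hs hsH hsr ht htH htr hf' (hf.mem i) (hf.isZ i)
  have hff : f i * f' j = f' j * f i :=
    hab _ (frame_mem ht htH htr hf i) _ (frame_mem hs hsH hsr hf' j)
  have hf'a : f' j * a = a * f' j := hab _ (frame_mem hs hsH hsr hf' j) _ ha
  have hf'fix : ∀ v, ρ (f i) v = v → ρ (f' j) v = v := by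
    intro v hv
    rw [← sub_eq_zero]
    refine eq_zero_of_fix (ρ := ρ) htF (hf.isZ i).1 (w := ρ (f' j) v - v) ?_ ?_
    · rw [hj]; exact sub_mem_Rg _ _
    · rw [map_sub, comm_fix hff hv, hv]
  have hf'a' : f' j * a' = a' * f' j := by
    apply C.D.row.inj
    ext v
    obtain ⟨b, hb, c, hcf, rfl⟩ := exists_decomp htF (hf.isZ i).1 v
    rw [mul_ap, mul_ap, map_add, map_add, map_add, map_add, h1 b hb, h2 c hcf, hf'fix c hcf, h2 c hcf,
      h1 _ (comm_Rg hff hb), ← mul_ap, hf'a, mul_ap]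
  have hbf' : b * f' j = f' j * b := by
    rw [hb]
    exact ((show Commute (f' j) a' from hf'a').pow_right k).symm
  obtain ⟨l, hl⟩ := mem_zpowers_of_Rg C.D.row hs (C.odd hs hsH) hsF hbZ (hf'.isZ j).1 hbf' (by rw [hRb', hj])
  have hgf' : f' j * g = g * f' j := by
    rw [hl, hb]
    exact (((show Commute a' g from hga').pow_left k).pow_left l).eq
  intro w hw
  rw [hj] at hw
  exact triv_block C hr hrH hmin hs hsH hsr (hest ▸ het) her hf' hgH hg j hgf' w hw

/-- **the key fact** -/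
theorem key (C : Cx ρ e X H) (hr : r.Prime) (hrH : r ∣ Nat.card H)
    (hmin : ∀ t : ℕ, t.Prime → t ∣ Nat.card H → r ≤ t) (ht : t.Prime) (htH : t ∣ Nat.card H) (htr : t ≠ r)
    (het : e t = r) (her : e r = r - 1) {g : Y} (hgH : g ∈ H) (hg : g ^ r = 1) {X₀ : Subgroup Y}
    (hX₀ : X₀ ≤ Subgroup.closure (gens H r)) (hc : ∀ x ∈ X₀, g * x = x * g)
    (hfix : ∀ v : V, (∀ x ∈ X₀, ρ x v = v) → ρ g v = v) : g = 1 := by
  obtain ⟨m, f, hf⟩ := C.frame ht htH
  refine eq_of_frame C.D.row.inj (C.ne ht htH) hf (fun i w hw => ?_) fun v hv => ?_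
  · rw [one_ap]
    by_cases hall : ∀ a ∈ X₀, ∀ w ∈ Rg ρ (f i), ρ a w = w
    · exact hfix w fun x hx => hall x hx w hw
    · push Not at hall
      obtain ⟨a, ha, w₁, hw₁, haw⟩ := hall
      exact triv_block' C hr hrH hmin ht htH htr het her hf hgH hg i (hX₀ ha) (hc a ha).symm
        (fun h => haw (h w₁ hw₁)) w hw
  · rw [one_ap]
    exact hfix v fun x hx => A_triv C hr hrH hmin ht htH htr hf (hX₀ hx) hv

end geo

section hall

variable {F : Type*} [Field F] {V : Type*} [AddCommGroup V] [Module F V] {Y : Type*} [Group Y]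
  {ρ : Representation F Y V} {e : ℕ → ℕ} [FiniteDimensional F V] [Finite Y] {X H : Subgroup Y} {π : Set ℕ}

/-- the subgroup `D(X₀)` -/
def DX (ρ : Representation F Y V) (X : Subgroup Y) (X₀ : Subgroup X) : Subgroup X where
  carrier := {g | (∀ x ∈ X₀, g * x = x * g) ∧ ∀ v : V, (∀ x ∈ X₀, ρ (x : Y) v = v) → ρ (g : Y) v = v}
  mul_mem' := by
    rintro a b ⟨ha, ha'⟩ ⟨hb, hb'⟩
    refine ⟨fun x hx => ?_, fun v hv => ?_⟩
    · rw [mul_assoc, hb x hx, ← mul_assoc, ha x hx, mul_assoc]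
    · show ρ ((a : Y) * (b : Y)) v = v
      rw [mul_ap, hb' v hv, ha' v hv]
  one_mem' := ⟨fun x _ => by rw [mul_one, one_mul], fun v _ => one_ap ρ v⟩
  inv_mem' := by
    rintro a ⟨ha, ha'⟩
    refine ⟨fun x hx => ((show Commute a x from ha x hx).inv_left).eq, fun v hv => ?_⟩
    show ρ ((a : Y)⁻¹) v = v
    conv_lhs => rw [← ha' v hv]
    rw [inv_ap]

/-- **case `e t = r`, `e r = r - 1`** -/
theorem domIn_X (C : Cx ρ e X H) [X.Normal] (hH : IsPiHall π H) (hdom : Cfsg.Agent.H380.RV.DomX π X H) {r t : ℕ}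
    (hr : r.Prime) (hrH : r ∣ Nat.card H)
    (hmin : ∀ t : ℕ, t.Prime → t ∣ Nat.card H → r ≤ t) (ht : t.Prime) (htH : t ∣ Nat.card H) (htr : t ≠ r)
    (het : e t = r) (her : e r = r - 1) {M : Subgroup X} (hM : H.subgroupOf X ≤ M) :
    DomIn π M (H.subgroupOf X) := by
  obtain ⟨hAH, hn, hab, hrA, hidx⟩ := C.structure_min hr hrH hmin
  obtain ⟨A, hA⟩ : ∃ A, A = Subgroup.closure (gens H r) := ⟨_, rfl⟩
  rw [← hA] at hAH hn hab hrA hidx
  obtain ⟨m, f, hf⟩ := C.frame ht htH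
  have hm : m < r := by
    have := blocks_lt C hr hrH hmin ht htH htr het her hf
    omega
  have hstab : ∀ X₀ ≤ A, ∀ h ∈ H, ∀ v : V, (∀ x ∈ X₀, ρ x v = v) → ∀ x ∈ X₀, ρ x (ρ h v) = ρ h v := by
    intro X₀ hX₀ h hh v hv x hx
    exact fix_stable C hr hrH hmin ht htH htr hm hf (hA ▸ hX₀ hx) hh (hv x hx)
  have hrA' : ¬ r ∣ Nat.card (A.subgroupOf X) := fun h =>
    hrA (h.trans (Subgroup.card_comap_dvd_of_injective _ _ X.subtype_injective))
  refine domIn_of_D hr (A := A.subgroupOf X) (isPiHall_subgroupOf hH X) hM (Subgroup.subgroupOf_mono _ hAH) ?_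
    hrA' ?_ ?_ ?_
  · intro a ha b hb
    exact Subtype.ext (hab a ha b hb)
  · intro p hp hd
    refine hidx p hp (hd.trans ?_)
    rw [Subgroup.subgroupOf, Subgroup.relIndex_comap, Subgroup.subgroupOf_map_subtype]
    exact Cfsg.Agent.H380.RV.relIndex_dvd_of_normalizes hAH hn inf_le_left
  · -- structure of the `π`-subgroups
    intro K _ hK
    obtain ⟨x, hx, hKx⟩ := hdom (K.map X.subtype) (Subgroup.map_subtype_le K)
      (by rw [Subgroup.card_map_of_injective X.subtype_injective]; exact hK)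
    have hcn : MulAut.conj x • H ≤ Subgroup.normalizer ((MulAut.conj x • A : Subgroup Y) : Set Y) := by
      rintro _ ⟨h, hh, rfl⟩
      apply mem_normalizer_of_conj_le
      rintro _ ⟨a, ha, rfl⟩
      refine ⟨h * a * h⁻¹, (Subgroup.mem_normalizer_iff.mp (hn hh) a).mp ha, ?_⟩
      show x * (h * a * h⁻¹) * x⁻¹ = (x * h * x⁻¹) * (x * a * x⁻¹) * (x * h * x⁻¹)⁻¹
      group
    refine ⟨(K.map X.subtype ⊓ MulAut.conj x • A).subgroupOf X, ?_, ?_, ?_, ?_⟩
    · rintro k ⟨⟨k', hk', hkk⟩, -⟩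
      rwa [X.subtype_injective hkk] at hk'
    · intro k hk
      apply mem_normalizer_of_conj_le
      rintro y ⟨hy1, hy2⟩
      refine ⟨Subgroup.mul_mem _ (Subgroup.mul_mem _ ⟨k, hk, rfl⟩ hy1) (Subgroup.inv_mem _ ⟨k, hk, rfl⟩), ?_⟩
      exact (Subgroup.mem_normalizer_iff.mp (hcn (hKx ⟨k, hk, rfl⟩)) (y : Y)).mp hy2
    · intro hd
      apply hrA
      have h1 := hd.trans (Subgroup.card_comap_dvd_of_injective _ _ X.subtype_injective)
      have h2 := h1.trans (Subgroup.card_dvd_of_le inf_le_right)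
      rwa [card_conj_smul] at h2
    · intro p hp hd
      apply hidx p hp
      have h1 : ((K.map X.subtype ⊓ MulAut.conj x • A).subgroupOf X).relIndex K =
          (MulAut.conj x • A : Subgroup Y).relIndex (K.map X.subtype) := by
        rw [Subgroup.subgroupOf, Subgroup.relIndex_comap, Subgroup.inf_relIndex_left]
      rw [h1] at hd
      have h2 := Cfsg.Agent.H380.RV.relIndex_dvd_of_normalizes (A := MulAut.conj x • A) (H := MulAut.conj x • H)
        (Subgroup.pointwise_smul_le_pointwise_smul_iff.2 hAH) hcn hKx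
      have h3 := hd.trans h2
      rwa [Subgroup.relIndex_pointwise_smul] at h3
  · -- the subgroup `D(X₀)`
    intro X₀ hX₀
    have hmem : ∀ v : V, (∀ x ∈ X₀.map X.subtype, ρ x v = v) ↔ ∀ x ∈ X₀, ρ (x : Y) v = v := by
      intro v
      constructor
      · intro h x hx
        exact h x ⟨x, hx, rfl⟩
      · rintro h _ ⟨x, hx, rfl⟩
        exact h x hx
    have hX₀A : X₀.map X.subtype ≤ A := by
      rintro _ ⟨x, hx, rfl⟩
      exact hX₀ hx
    refine ⟨DX ρ X X₀, ?_, ?_, ?_, ?_, ?_⟩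
    · intro x hx
      refine ⟨fun y hy => Subtype.ext (hab x (hX₀ hx) y (hX₀ hy)), fun v hv => hv x hx⟩
    · intro d hd x hx
      exact hd.1 x hx
    · intro g hg
      apply mem_normalizer_of_conj_le
      rintro d ⟨hd1, hd2⟩
      have hgi : ∀ x ∈ X₀, g⁻¹ * x * g ∈ X₀ := by
        intro x hx
        have h1 := (Subgroup.mem_normalizer_iff.mp (Subgroup.inv_mem _ hg) x).mp hx
        rwa [inv_inv] at h1
      have hgi' : ∀ x ∈ X₀, g * x * g⁻¹ ∈ X₀ := fun x hx => (Subgroup.mem_normalizer_iff.mp hg x).mp hx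
      refine ⟨fun x hx => ?_, fun v hv => ?_⟩
      · have h1 := hd1 _ (hgi x hx)
        calc g * d * g⁻¹ * x = g * (d * (g⁻¹ * x * g)) * g⁻¹ := by group
          _ = g * ((g⁻¹ * x * g) * d) * g⁻¹ := by rw [h1]
          _ = x * (g * d * g⁻¹) := by group
      · show ρ ((g : Y) * (d : Y) * (g : Y)⁻¹) v = v
        have h1 : ρ (d : Y) (ρ (g : Y)⁻¹ v) = ρ (g : Y)⁻¹ v := by
          apply hd2
          intro x hx
          have h2 := hv _ (hgi' x hx)
          have h3 : ((g * x * g⁻¹ : X) : Y) = (g : Y) * (x : Y) * (g : Y)⁻¹ := rfl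
          rw [h3, mul_ap, mul_ap] at h2
          have h4 := congrArg (ρ (g : Y)⁻¹) h2
          rwa [inv_ap] at h4
        rw [mul_ap, mul_ap, h1, ap_inv]
    · -- elements of order `r`
      intro hd
      have := Fact.mk hr
      obtain ⟨g', hgo⟩ := exists_prime_orderOf_dvd_card' r hd
      obtain ⟨g, hgg⟩ : ∃ g : X, g = (g' : X) := ⟨_, rfl⟩
      have hg1 : ∀ x ∈ X₀, g * x = x * g := by rw [hgg]; exact g'.2.1
      have hg2 : ∀ v : V, (∀ x ∈ X₀, ρ (x : Y) v = v) → ρ (g : Y) v = v := by rw [hgg]; exact g'.2.2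
      rw [← Subgroup.orderOf_coe, ← hgg] at hgo
      have hgr : g ^ r = 1 := by rw [← hgo]; exact pow_orderOf_eq_one g
      have hrπ : r ∈ π := hH.1 r hr hrH
      have hzn : Subgroup.zpowers g ≤ Subgroup.normalizer (X₀ : Set X) := by
        rw [Subgroup.zpowers_le]
        apply mem_normalizer_of_conj_le
        intro x hx
        rw [hg1 x hx, mul_inv_cancel_right]
        exact hx
      have hK : PiN π (Nat.card (Subgroup.zpowers g ⊔ X₀ : Subgroup X)) := by
        refine piN_sup hzn ?_ ?_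
        · intro p hp hd
          rw [Nat.card_zpowers, hgo] at hd
          rwa [(Nat.prime_dvd_prime_iff_eq hp hr).mp hd]
        · intro p hp hd
          exact hH.1 p hp ((hd.trans (Subgroup.card_dvd_of_le hX₀)).trans
            ((Subgroup.card_comap_dvd_of_injective _ _ X.subtype_injective).trans (Subgroup.card_dvd_of_le hAH)))
      obtain ⟨x, hx, hKx⟩ := hdom ((Subgroup.zpowers g ⊔ X₀ : Subgroup X).map X.subtype) (Subgroup.map_subtype_le _)
        (by rw [Subgroup.card_map_of_injective X.subtype_injective]; exact hK)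
      have hin : ∀ y : X, y ∈ (Subgroup.zpowers g ⊔ X₀ : Subgroup X) → x⁻¹ * (y : Y) * x ∈ H := by
        intro y hy
        obtain ⟨h, hh, hhy⟩ := hKx ⟨y, hy, rfl⟩
        have h1 : x * h * x⁻¹ = (y : Y) := hhy
        rw [← h1]
        have h2 : x⁻¹ * (x * h * x⁻¹) * x = h := by group
        rw [h2]; exact hh
      have hgH : x⁻¹ * (g : Y) * x ∈ H := hin g (Subgroup.mem_sup_left (Subgroup.mem_zpowers g))
      set X₁ : Subgroup Y := MulAut.conj x⁻¹ • X₀.map X.subtype with hX₁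
      have hX₁H : X₁ ≤ H := by
        rintro _ ⟨_, ⟨y, hy, rfl⟩, rfl⟩
        have h1 := hin y (Subgroup.mem_sup_right hy)
        have h2 : (MulAut.conj x⁻¹) (y : Y) = x⁻¹ * (y : Y) * x := by simp
        show (MulAut.conj x⁻¹) (y : Y) ∈ H
        rw [h2]; exact h1
      have hX₁A : X₁ ≤ A := by
        refine le_hall (τ := {p | p ≠ r}) (X := H) ?_ hAH hX₁H ?_ (hX₁H.trans hn)
        · intro p hp hpr hd
          exact hpr (hidx p hp hd)
        · intro p hp hd'
          rw [hX₁, card_conj_smul, Subgroup.card_map_of_injective X.subtype_injective] at hd'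
          intro hpr
          rw [hpr] at hd'
          exact hrA' (hd'.trans (Subgroup.card_dvd_of_le hX₀))
      have h1 : x⁻¹ * (g : Y) * x = 1 := by
        refine key C hr hrH hmin ht htH htr het her hgH ?_ (X₀ := X₁) (hA ▸ hX₁A) ?_ ?_
        · have h2 : (x⁻¹ * (g : Y) * x) ^ r = x⁻¹ * (g : Y) ^ r * x := by
            have := conj_pow (a := x⁻¹) (b := (g : Y)) (i := r)
            rwa [inv_inv] at this
          have h3 : (g : Y) ^ r = 1 := congrArg Subtype.val hgr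
          rw [h2, h3, mul_one, inv_mul_cancel]
        · rintro _ ⟨_, ⟨y, hy, rfl⟩, rfl⟩
          have h2 : (MulAut.conj x⁻¹) (y : Y) = x⁻¹ * (y : Y) * x := by simp
          show x⁻¹ * (g : Y) * x * (MulAut.conj x⁻¹) (y : Y) = (MulAut.conj x⁻¹) (y : Y) * (x⁻¹ * (g : Y) * x)
          rw [h2]
          have h3 : (g : Y) * (y : Y) = (y : Y) * (g : Y) := congrArg Subtype.val (hg1 y hy)
          calc x⁻¹ * (g : Y) * x * (x⁻¹ * (y : Y) * x) = x⁻¹ * ((g : Y) * (y : Y)) * x := by group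
            _ = x⁻¹ * ((y : Y) * (g : Y)) * x := by rw [h3]
            _ = x⁻¹ * (y : Y) * x * (x⁻¹ * (g : Y) * x) := by group
        · intro v hv
          have h2 : ρ (g : Y) (ρ x v) = ρ x v := by
            apply hg2
            intro y hy
            have h3 := hv ((MulAut.conj x⁻¹) (y : Y)) ⟨_, ⟨y, hy, rfl⟩, rfl⟩
            have h4 : (MulAut.conj x⁻¹) (y : Y) = x⁻¹ * (y : Y) * x := by simp
            rw [h4, mul_ap, mul_ap] at h3
            have h5 := congrArg (ρ x) h3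
            rwa [ap_inv] at h5
          rw [mul_ap, mul_ap, h2, inv_ap]
      have h2 : (g : Y) = 1 := by
        have h3 : (g : Y) = x * (x⁻¹ * (g : Y) * x) * x⁻¹ := by group
        rw [h3, h1]; group
      have h3 : g = 1 := Subtype.ext h2
      rw [h3, orderOf_one] at hgo
      exact hr.one_lt.ne hgo
    · -- `H` normalises `A ∩ D(X₀)`
      intro h hh
      apply mem_normalizer_of_conj_le
      rintro a ⟨haA, ha1, ha2⟩
      have haA' : h * a * h⁻¹ ∈ A.subgroupOf X := (Subgroup.mem_normalizer_iff.mp (hn hh) (a : Y)).mp haA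
      refine ⟨haA', fun x hx => Subtype.ext (hab _ haA' x (hX₀ hx)), fun v hv => ?_⟩
      show ρ ((h : Y) * (a : Y) * (h : Y)⁻¹) v = v
      have h1 : ρ (a : Y) (ρ (h : Y)⁻¹ v) = ρ (h : Y)⁻¹ v := by
        apply ha2
        rw [← hmem]
        exact hstab _ hX₀A _ (H.inv_mem hh) v ((hmem v).mpr hv)
      rw [mul_ap, mul_ap, h1, ap_inv]

/-- heredity in a homomorphic image -/
theorem her_of_domIn {X' : Type*} {S : Type u} [Group X'] [Finite X'] [Group S] [Finite S] (f : X' →* S)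
    (hf : Function.Surjective f) {H' : Subgroup X'} (hH : IsPiHall π (H'.map f))
    (h : ∀ M : Subgroup X', H' ≤ M → DomIn π M H') : Her π S := by
  refine her_of_one hH fun _ M hM K hKM hK => ?_
  obtain ⟨L, hL, rfl⟩ := Cfsg.Agent.H808.RV.exists_lift f (K := K)
    (by rw [MonoidHom.range_eq_top.2 hf]; exact le_top) hK
  obtain ⟨m, hm, hle⟩ := h (M.comap f) (fun x hx => hM ⟨x, hx, rfl⟩) L (fun x hx => hKM ⟨x, hx, rfl⟩) hL
  refine ⟨f m, hm, ?_⟩
  rw [← Cfsg.Agent.H808.RV.map_smul_conj]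
  exact Subgroup.map_mono hle

/-- **the row, `e r = r - 1`** -/
theorem rowM_gamma {S : Type u} [Group S] [Finite S] [IsSimpleGroup S] (hna : ∃ a b : S, a * b ≠ b * a) [X.Normal]
    (D : LinDat ρ e X) (h2 : 2 ∉ π) (hπ : ∀ r ∈ π, r.Prime → (r : F) ≠ 0) (hH : IsPiHall π H)
    (hdom : Cfsg.Agent.H380.RV.DomX π X H) (f : X →* S) (hf : Function.Surjective f)
    (hker : f.ker ≤ Subgroup.center X)
    (hk : ∀ t : ℕ, t.Prime → t ∣ Nat.card H → e t ≠ 1 → ¬ t ∣ Nat.card f.ker ∧ ∀ y : Y, y ^ t = 1 → y ∈ X)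
    (hγ : e (Nat.card H).minFac = (Nat.card H).minFac - 1) : RowM π S := by
  have hHS : IsPiHall π ((H.subgroupOf X).map f) :=
    ⟨PiN.of_dvd (isPiHall_subgroupOf hH X).1 (Subgroup.card_map_dvd _ _),
      PiN'.of_dvd (isPiHall_subgroupOf hH X).2 (Subgroup.index_map_dvd _ hf)⟩
  by_cases h1 : Nat.card H = 1
  · refine her_rowM (her_of_nilpotent hHS ?_)
    have h3 : H = ⊥ := Subgroup.card_eq_one.mp h1
    have h4 : (H.subgroupOf X).map f = ⊥ := by
      rw [h3, Subgroup.bot_subgroupOf, Subgroup.map_bot]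
    rw [h4]
    infer_instance
  have C : Cx ρ e X H := Cx.of_hall D h2 hπ hH hdom
  obtain ⟨r, hrd⟩ : ∃ r, r = (Nat.card H).minFac := ⟨_, rfl⟩
  rw [← hrd] at hγ
  have hr : r.Prime := by rw [hrd]; exact Nat.minFac_prime h1
  have hrH : r ∣ Nat.card H := by rw [hrd]; exact Nat.minFac_dvd _
  have hmin : ∀ t : ℕ, t.Prime → t ∣ Nat.card H → r ≤ t := fun t ht hd => by
    rw [hrd]; exact Nat.minFac_le_of_dvd ht.two_le hd
  have hr3 : 3 ≤ r := by
    have h1 := hr.two_le
    rcases C.odd hr hrH with ⟨k, hk⟩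
    omega
  by_cases hex : ∃ t : ℕ, t.Prime ∧ t ∣ Nat.card H ∧ t ≠ r ∧ e t = r
  · obtain ⟨t, ht, htH, htr, het⟩ := hex
    exact her_rowM (her_of_domIn f hf hHS fun M hM =>
      domIn_X C hH hdom hr hrH hmin ht htH htr het hγ hM)
  · push Not at hex
    obtain ⟨hAH, hn, hab, hrA, hidx⟩ := C.structure_min hr hrH hmin
    -- `e t ≠ 1`
    have hcomm : ∀ t : ℕ, t.Prime → t ∣ Nat.card H → t ≠ r → ∀ z ∈ H, IsZ ρ e r z → ∀ a ∈ H, IsZ ρ e t a →
        z * a = a * z := by
      intro t ht htH htr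
      rcases C.comm_or hr hrH ht htH (lt_of_le_of_ne (hmin t ht htH) htr.symm) with h | h
      · exact h
      · exact absurd h.1 (hex t ht htH htr)
    have he1 : ∀ t : ℕ, t.Prime → t ∣ Nat.card H → e t ≠ 1 := by
      intro t ht htH
      by_cases htr : t = r
      · rw [htr, hγ]; omega
      · obtain ⟨m, z, hz⟩ := C.frame hr hrH
        obtain ⟨m', z', hz'⟩ := C.frame ht htH
        have hm := C.pos hr hrH hz
        have h3 : e r ≤ e t := e_le_of_comm D (C.ne ht htH) hr (C.odd hr hrH) (C.ne hr hrH) hz' (hz.isZ ⟨0, hm⟩)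
          fun i => (hcomm t ht htH htr _ (hz.mem _) (hz.isZ _) _ (hz'.mem i) (hz'.isZ i)).symm
        omega
    obtain ⟨m, z, hz⟩ := C.frame hr hrH
    have hm := C.pos hr hrH hz
    obtain ⟨z₀, hz₀⟩ : ∃ z₀, z₀ = z ⟨0, hm⟩ := ⟨_, rfl⟩
    have hz₀Z : IsZ ρ e r z₀ := hz₀ ▸ hz.isZ _
    have hz₀X : z₀ ∈ X := (hk r hr hrH (he1 r hr hrH)).2 z₀ hz₀Z.1
    have hrk : ¬ r ∣ Nat.card f.ker := (hk r hr hrH (he1 r hr hrH)).1
    have hz₀1 : z₀ ≠ 1 := by
      intro h
      have h3 := hz₀Z.2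
      rw [h, rk, map_one, sub_self, LinearMap.range_zero, finrank_bot] at h3
      omega
    have d : HA π r ((H.subgroupOf X).map f) (((Subgroup.closure (gens H r)).subgroupOf X).map f) := by
      refine ⟨hr, hHS, Subgroup.map_mono (Subgroup.subgroupOf_mono _ hAH), ?_, ?_, ?_, ?_⟩
      · have h1 : H.subgroupOf X ≤
            Subgroup.normalizer (((Subgroup.closure (gens H r)).subgroupOf X : Subgroup X) : Set X) := by
          intro x hx
          apply mem_normalizer_of_conj_le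
          intro y hy
          exact (Subgroup.mem_normalizer_iff.mp (hn hx) (y : Y)).mp hy
        exact (Subgroup.map_mono h1).trans (Subgroup.le_normalizer_map _)
      · rintro _ ⟨a, ha, rfl⟩ _ ⟨b, hb, rfl⟩
        rw [← map_mul, ← map_mul]
        exact congrArg f (Subtype.ext (hab a ha b hb))
      · intro h1
        apply hrA
        refine h1.trans ((Subgroup.card_map_dvd _ _).trans ?_)
        exact Subgroup.card_comap_dvd_of_injective _ _ X.subtype_injective
      · intro p hp hd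
        refine hidx p hp (hd.trans ?_)
        rw [← Subgroup.relIndex_comap]
        refine (Subgroup.relIndex_dvd_of_le_left _ (Subgroup.le_comap_map f _)).trans ?_
        rw [Subgroup.subgroupOf, Subgroup.relIndex_comap, Subgroup.subgroupOf_map_subtype]
        exact Cfsg.Agent.H380.RV.relIndex_dvd_of_normalizes hAH hn inf_le_left
    have hkerpow : ∀ c ∈ f.ker, c ^ Nat.card f.ker = 1 := fun c hc =>
      congrArg Subtype.val (pow_card_eq_one' (x := (⟨c, hc⟩ : f.ker)))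
    refine rowM_of_z_cover f hna d (hH.1 r hr hrH) hf (A' := (Subgroup.closure (gens H r)).subgroupOf X) le_rfl
      (z := ⟨z₀, hz₀X⟩) ?_ ⟨1, Subtype.ext (by rw [pow_one]; exact hz₀Z.1)⟩ ?_
    · intro h
      have h3 := hkerpow _ (show (⟨z₀, hz₀X⟩ : X) ∈ f.ker from h)
      have h4 : z₀ ^ Nat.card f.ker = 1 := congrArg Subtype.val h3
      apply hz₀1
      have h5 : orderOf z₀ ∣ 1 := by
        rw [← (Nat.Prime.coprime_iff_not_dvd hr).mpr hrk]
        exact Nat.dvd_gcd (orderOf_dvd_of_pow_eq_one hz₀Z.1) (orderOf_dvd_of_pow_eq_one h4)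
      exact orderOf_eq_one_iff.mp (Nat.dvd_one.mp h5)
    · rintro _ g ⟨y, hy, hyg⟩ a ha
      have hc : y⁻¹ * (g * ⟨z₀, hz₀X⟩ * g⁻¹) ∈ f.ker := by
        rw [MonoidHom.mem_ker, map_mul, map_inv, hyg, inv_mul_cancel]
      obtain ⟨c, hcd⟩ : ∃ c, c = y⁻¹ * (g * ⟨z₀, hz₀X⟩ * g⁻¹) := ⟨_, rfl⟩
      rw [← hcd] at hc
      have hgz : g * ⟨z₀, hz₀X⟩ * g⁻¹ = y * c := by rw [hcd]; group
      have hyc : y * c = c * y := Subgroup.mem_center_iff.mp (hker hc) y
      have hgzr : (y * c) ^ r = 1 := by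
        have h3 : (⟨z₀, hz₀X⟩ : X) ^ r = 1 := Subtype.ext hz₀Z.1
        rw [← hgz, conj_pow, h3, mul_one, mul_inv_cancel]
      rw [(show Commute y c from hyc).mul_pow] at hgzr
      have hcN := hkerpow c hc
      have hcop : (Nat.card H).Coprime (Nat.card f.ker) :=
        Nat.coprime_of_dvd fun p hp h3 h4 => (hk p hp h3 (he1 p hp h3)).1 h4
      have hyH' : (y : Y) ^ Nat.card H = 1 :=
        congrArg Subtype.val (pow_card_eq_one' (x := (⟨(y : Y), hy⟩ : H)))
      have hyH : y ^ Nat.card H = 1 := Subtype.ext hyH'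
      have hyr : y ^ r = 1 := by
        have h3 : (y ^ r) ^ Nat.card H = 1 := by rw [← pow_mul, mul_comm, pow_mul, hyH, one_pow]
        have h4 : (y ^ r) ^ Nat.card f.ker = 1 := by
          have h5 : y ^ r = (c ^ r)⁻¹ := eq_inv_of_mul_eq_one_left hgzr
          rw [h5, inv_pow, ← pow_mul, mul_comm, pow_mul, hcN, one_pow, inv_one]
        have h5 : orderOf (y ^ r) ∣ 1 := by
          rw [← hcop]
          exact Nat.dvd_gcd (orderOf_dvd_of_pow_eq_one h3) (orderOf_dvd_of_pow_eq_one h4)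
        exact orderOf_eq_one_iff.mp (Nat.dvd_one.mp h5)
      have hc1 : c = 1 := by
        rw [hyr, one_mul] at hgzr
        have h5 : orderOf c ∣ 1 := by
          rw [← (Nat.Prime.coprime_iff_not_dvd hr).mpr hrk]
          exact Nat.dvd_gcd (orderOf_dvd_of_pow_eq_one hgzr) (orderOf_dvd_of_pow_eq_one hcN)
        exact orderOf_eq_one_iff.mp (Nat.dvd_one.mp h5)
      have hzH : (g : Y) * z₀ * (g : Y)⁻¹ ∈ H := by
        have h3 : ((g * ⟨z₀, hz₀X⟩ * g⁻¹ : X) : Y) = (y : Y) := by rw [hgz, hc1, mul_one]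
        have h4 : ((g * ⟨z₀, hz₀X⟩ * g⁻¹ : X) : Y) = (g : Y) * z₀ * (g : Y)⁻¹ := rfl
        rw [← h4, h3]
        exact hy
      exact Subtype.ext (z_cen' C hr hrH hmin (fun t ht htH htr h => hex t ht htH htr h.1) hzH (hz₀Z.conj _) a ha)

end hall

end Cfsg.Agent.H479.RM
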