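import Cfsg.Agent.H479.RM.Cen
import Cfsg.Agent.H479.RM.DOne
import Cfsg.Agent.Transfer.PGroupNormal

/-!
# S3849, linear and unitary groups, `e r = r - 1`, `e t = r`: the geometry (helper479)

`C : Cx ρ e X H`, `r` the smallest prime of `|H|`, `A = closure (gens H r)`, `f` a `t`-frame of `H`, `e t = r`, `e r = r - 1`.

* `blocks_lt` : there are less than `r - 1` blocks;
* `St_block` : `H` stabilises the blocks;
* `fix_stable` : `H` stabilises `C_V(X₀)`, `X₀ ≤ A`;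
* `triv_block` : `r`-elements which commute with `f i` are trivial on the block;
* `key` : `g ∈ H` of order `r`, commuting with `X₀ ≤ A`, trivial on `C_V(X₀)`, is trivial.
-/

set_option autoImplicit false
set_option linter.unusedSectionVars false

namespace Cfsg.Agent.H479.RM

open Module Cfsg.Agent.H167.OP Cfsg.Agent.H170.HL Cfsg.Agent.H556.HallRowAbs Cfsg.Agent.H556.HallLB
  Cfsg.Agent.H556.HallSmallCen Cfsg.Agent.H553.RV

theorem exists_central {Y : Type*} [Group Y] [Finite Y] {r : ℕ} (hr : r.Prime) {P Θ : Subgroup Y} (hP : IsPGroup r P)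
    (hΘ : IsPGroup r Θ) (hn : P ≤ Subgroup.normalizer (Θ : Set Y)) (h1 : Θ ≠ ⊥) :
    ∃ c ∈ Θ, c ≠ 1 ∧ c ^ r = 1 ∧ ∀ x ∈ P, c * x = x * c := by
  have := Fact.mk hr
  set L := P ⊔ Θ with hL
  have hLp : IsPGroup r L := hP.to_sup_of_normal_right' hΘ hn
  have hΘL : Θ ≤ L := le_sup_right
  have hN : (Θ.subgroupOf L).Normal :=
    (Subgroup.normal_subgroupOf_iff_le_normalizer hΘL).mpr (sup_le hn Subgroup.le_normalizer)
  obtain ⟨c, hc, hcc, hco⟩ := Cfsg.Agent.Transfer.PGroupNormal.exists_mem_inf_center_orderOf hLp (Θ.subgroupOf L) (by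
    intro h
    apply h1
    rw [eq_bot_iff]
    intro x hx
    have h2 : (⟨x, hΘL hx⟩ : L) ∈ Θ.subgroupOf L := hx
    rw [h, Subgroup.mem_bot] at h2
    rw [Subgroup.mem_bot]
    exact congrArg Subtype.val h2)
  refine ⟨c, hc, ?_, ?_, fun x hx => ?_⟩
  · intro h
    have h2 : c = 1 := Subtype.ext h
    rw [h2, orderOf_one] at hco
    exact hr.one_lt.ne hco
  · have h2 : c ^ r = 1 := by rw [← hco]; exact pow_orderOf_eq_one c
    exact congrArg Subtype.val h2
  · have h2 := Subgroup.mem_center_iff.mp hcc ⟨x, Subgroup.mem_sup_left hx⟩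
    exact (congrArg Subtype.val h2).symm

variable {F : Type*} [Field F] {V : Type*} [AddCommGroup V] [Module F V] {Y : Type*} [Group Y]
  {ρ : Representation F Y V} {e : ℕ → ℕ} [FiniteDimensional F V] [Finite Y] {X H : Subgroup Y} {r t m : ℕ}
  {f : Fin m → Y}

/-- less than `r - 1` blocks -/
theorem blocks_lt (C : Cx ρ e X H) (hr : r.Prime) (hrH : r ∣ Nat.card H)
    (hmin : ∀ t : ℕ, t.Prime → t ∣ Nat.card H → r ≤ t) (ht : t.Prime) (htH : t ∣ Nat.card H) (htr : t ≠ r)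
    (het : e t = r) (her : e r = r - 1) (hf : Fm ρ e H t m f) : m < r - 1 := by
  obtain ⟨N, z, hz⟩ := C.frame hr hrH
  have hex : ∀ i, ∃ w ∈ Rg ρ (f i), w ≠ 0 ∧ ∀ j, ρ (z j) w = w := fun i =>
    C.gamma_fix hr hrH ht htH (lt_of_le_of_ne (hmin t ht htH) htr.symm) het her hz (hf.isZ i) (hf.mem i)
  choose w hw hw0 hwz using hex
  have hli : LinearIndependent F w := by
    rw [Fintype.linearIndependent_iff]
    intro g hg i
    have h6 := indep_sum (ρ := ρ) Finset.univ f (fun i : Fin m => g i • w i) (C.ne ht htH)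
      (fun i _ => (hf.isZ i).1) (fun i _ => Submodule.smul_mem _ _ (hw i)) (fun i _ k _ hik => by
        rw [map_smul, fixed_of_ne hf (Ne.symm hik) (hw i)]) hg i (Finset.mem_univ i)
    exact (smul_eq_zero.mp h6).resolve_right (hw0 i)
  have h1 := hz.max (Submodule.span F (Set.range w)) (by
    intro j v hv
    induction hv using Submodule.span_induction with
    | mem v hv => obtain ⟨i, rfl⟩ := hv; exact hwz i j
    | zero => rw [map_zero]
    | add u v _ _ hu hv => rw [map_add, hu, hv]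
    | smul c v _ hv => rw [map_smul, hv])
  rw [finrank_span_eq_card hli, Fintype.card_fin, her] at h1
  exact h1

/-- conjugates of the frame elements have a block as support -/
theorem conj_block (C : Cx ρ e X H) (hr : r.Prime) (hrH : r ∣ Nat.card H)
    (hmin : ∀ t : ℕ, t.Prime → t ∣ Nat.card H → r ≤ t) (ht : t.Prime) (htH : t ∣ Nat.card H) (htr : t ≠ r)
    (hf : Fm ρ e H t m f) {h : Y} (hh : h ∈ H) (i : Fin m) : ∃ j, Rg ρ (h * f i * h⁻¹) = Rg ρ (f j) := by
  have hn := (C.structure_min hr hrH hmin).2.1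
  refine C.same_atom ht htH ht htH rfl hf ((hf.isZ i).conj h) fun j => ?_
  exact A_comm C hr hrH hmin _ (frame_mem ht htH htr hf j) _
    ((Subgroup.mem_normalizer_iff.mp (hn hh) _).mp (frame_mem ht htH htr hf i))

/-- `r`-elements of `H` stabilise the blocks -/
theorem St_block_r (C : Cx ρ e X H) (hr : r.Prime) (hrH : r ∣ Nat.card H)
    (hmin : ∀ t : ℕ, t.Prime → t ∣ Nat.card H → r ≤ t) (ht : t.Prime) (htH : t ∣ Nat.card H) (htr : t ≠ r)
    (hm : m < r) (hf : Fm ρ e H t m f) {x : Y} (hxH : x ∈ H) (hx : ∃ k : ℕ, x ^ r ^ k = 1) (i : Fin m) :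
    St ρ (Rg ρ (f i)) x := by
  by_contra hst
  obtain ⟨k, hk⟩ := hx
  choose g hg using fun j : Fin r => conj_block C hr hrH hmin ht htH htr hf (H.pow_mem hxH (j : ℕ)) i
  have hgi : Function.Injective g := by
    intro j l hjl
    by_contra hne
    apply distinct_translates (ρ := ρ) hr hk hst j.2 l.2 (fun h => hne (Fin.ext h))
    intro w hw
    have h1 : ρ (x ^ (j : ℕ)) w ∈ Rg ρ (x ^ (j : ℕ) * f i * (x ^ (j : ℕ))⁻¹) := by
      rw [Rg_conj]; exact ⟨w, hw, rfl⟩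
    rw [hg, hjl, ← hg, Rg_conj] at h1
    obtain ⟨w', hw', h2⟩ := h1
    rw [mul_ap, ← h2, inv_ap]
    exact hw'
  have h1 := Fintype.card_le_of_injective g hgi
  rw [Fintype.card_fin, Fintype.card_fin] at h1
  omega

/-- `H` stabilises the blocks -/
theorem St_block (C : Cx ρ e X H) (hr : r.Prime) (hrH : r ∣ Nat.card H)
    (hmin : ∀ t : ℕ, t.Prime → t ∣ Nat.card H → r ≤ t) (ht : t.Prime) (htH : t ∣ Nat.card H) (htr : t ≠ r)
    (hm : m < r) (hf : Fm ρ e H t m f) {h : Y} (hh : h ∈ H) (i : Fin m) : St ρ (Rg ρ (f i)) h := by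
  obtain ⟨hAH, hn, hab, hrA, hidx⟩ := C.structure_min hr hrH hmin
  obtain ⟨R, hRH, hRr, hAR⟩ := exists_compl hr hAH hidx
  have h1 : H ≤ NW ρ (Rg ρ (f i)) := by
    rw [← hAR]
    refine sup_le ?_ ?_
    · intro a ha
      show St ρ (Rg ρ (f i)) a
      intro w hw
      exact comm_Rg (hab _ (frame_mem ht htH htr hf i) _ ha) hw
    · intro x hx
      obtain ⟨k, hk⟩ := hRr ⟨x, hx⟩
      exact St_block_r C hr hrH hmin ht htH htr hm hf (hRH hx) ⟨k, congrArg Subtype.val hk⟩ i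
  exact h1 hh

/-- **`H` stabilises `C_V(x)`**, `x ∈ A` -/
theorem fix_stable (C : Cx ρ e X H) (hr : r.Prime) (hrH : r ∣ Nat.card H)
    (hmin : ∀ t : ℕ, t.Prime → t ∣ Nat.card H → r ≤ t) (ht : t.Prime) (htH : t ∣ Nat.card H) (htr : t ≠ r)
    (hm : m < r) (hf : Fm ρ e H t m f) {x : Y} (hx : x ∈ Subgroup.closure (gens H r)) {h : Y} (hh : h ∈ H) {v : V}
    (hv : ρ x v = v) : ρ x (ρ h v) = ρ h v := by
  obtain ⟨hAH, hn, hab, hrA, hidx⟩ := C.structure_min hr hrH hmin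
  have hx'A : h⁻¹ * x * h ∈ Subgroup.closure (gens H r) := by
    have h1 := (Subgroup.mem_normalizer_iff.mp (hn (H.inv_mem hh)) x).mp hx
    rwa [inv_inv] at h1
  obtain ⟨x', hx'⟩ : ∃ x', x' = h⁻¹ * x * h := ⟨_, rfl⟩
  rw [← hx'] at hx'A
  have hcard := C.hH.card_ne (le_refl H)
  have hxN : x ^ Nat.card H = 1 := congrArg Subtype.val (pow_card_eq_one' (x := (⟨x, hAH hx⟩ : H)))
  -- `Rg x' ≤ Rg x`
  have hle : ∀ u, ρ x' u - u ∈ Rg ρ x := by
    intro u
    refine frame_span (C.ne ht htH) hf (W := (Rg ρ x).comap (ρ x' - 1)) ?_ ?_ u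
    · intro i w hw
      rw [Submodule.mem_comap, LinearMap.sub_apply, Module.End.one_apply]
      rcases A_dicho C hr hrH hmin ht htH htr hf hx i with h1 | h1
      · have h2 : ρ x' w = w := by
          rw [hx', mul_ap, mul_ap, h1 _ (St_block C hr hrH hmin ht htH htr hm hf hh i w hw), inv_ap]
        rw [h2, sub_self]
        exact Submodule.zero_mem _
      · have h2 : Rg ρ (f i) ≤ Rg ρ x :=
          le_Rg_of_free (fun w hw => comm_Rg (hab _ (frame_mem ht htH htr hf i) _ hx) hw) h1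
        exact h2 (Submodule.sub_mem _ (comm_Rg (hab _ (frame_mem ht htH htr hf i) _ hx'A) hw) hw)
    · intro w hw
      rw [Submodule.mem_comap, LinearMap.sub_apply, Module.End.one_apply,
        A_triv C hr hrH hmin ht htH htr hf hx'A hw, sub_self]
      exact Submodule.zero_mem _
  have h1 : ρ x' v = v := by
    rw [← sub_eq_zero]
    refine eq_zero_of_fix hcard hxN (hle v) ?_
    rw [map_sub, comm_fix (hab x hx x' hx'A) hv, hv]
  rw [hx', mul_ap, mul_ap] at h1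
  have h2 := congrArg (ρ h) h1
  rwa [ap_inv] at h2

/-- **`r`-elements commuting with a frame element are trivial on its block** -/
theorem triv_block (C : Cx ρ e X H) (hr : r.Prime) (hrH : r ∣ Nat.card H)
    (hmin : ∀ t : ℕ, t.Prime → t ∣ Nat.card H → r ≤ t) (ht : t.Prime) (htH : t ∣ Nat.card H) (htr : t ≠ r)
    (het : e t = r) (her : e r = r - 1) (hf : Fm ρ e H t m f) {g : Y} (hgH : g ∈ H) (hg : g ^ r = 1) (i : Fin m)
    (hgc : f i * g = g * f i) : ∀ w ∈ Rg ρ (f i), ρ g w = w := by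
  by_contra hcon
  have := Fact.mk hr
  have htF := C.ne ht htH
  have hrF := C.ne hr hrH
  have hrt : r < t := lt_of_le_of_ne (hmin t ht htH) htr.symm
  have hgen := C.gen hr hrH ht htH hrt
  have hr3 : 3 ≤ r := by
    have h1 := hr.two_le
    rcases C.odd hr hrH with ⟨k, hk⟩
    omega
  have hm : m < r := by
    have := blocks_lt C hr hrH hmin ht htH htr het her hf
    omega
  have hdW : finrank F (Rg ρ (f i)) = r := by rw [finrank_Rg, (hf.isZ i).2, het]
  have hfree : ∀ w ∈ Rg ρ (f i), ρ g w = w → w = 0 := by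
    rcases dicho C.D ht (C.odd ht htH) htF (hf.isZ i) hgc hrF hg with h | h
    · exact absurd h hcon
    · exact h
  -- a small `r`-element on the block
  obtain ⟨N, z, hz⟩ := C.frame hr hrH
  obtain ⟨j, w₀, hw₀, hjw⟩ : ∃ j, ∃ w ∈ Rg ρ (f i), ρ (z j) w ≠ w := by
    by_contra hall
    push Not at hall
    have h1 := hz.max (Rg ρ (f i)) hall
    rw [hdW, her] at h1
    omega
  have hstz : St ρ (Rg ρ (f i)) (z j) :=
    St_block C hr hrH hmin ht htH htr hm hf (hz.mem j) i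
  have hzle : Rg ρ (z j) ≤ Rg ρ (f i) := by
    have hne : z j * f i ≠ f i * z j := by
      intro hc
      rcases dicho C.D ht (C.odd ht htH) htF (hf.isZ i) hc.symm hrF (hz.isZ j).1 with h | h
      · exact hjw (h _ hw₀)
      · have h2 : Rg ρ (f i) ≤ Rg ρ (z j) := le_Rg_of_free hstz h
        have h3 := Submodule.finrank_mono h2
        rw [hdW, finrank_Rg, (hz.isZ j).2, her] at h3
        omega
    obtain ⟨l, hl⟩ := norm_atom C.D C.hH ht (C.odd ht htH) htF hgen (hf.isZ i) (hf.mem i) (hz.mem j) hstz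
    have h1 := fr_local hr ht htF (fun w hw => map_Rg hw) hstz
      (fun w hw h => eq_zero_of_fix htF (hf.isZ i).1 hw h) (hf.isZ i).1 (hz.isZ j).1 hl hne
    rw [hdW, mul_comm (r - 1) r] at h1
    have h2 : r - 1 ≤ finrank F (Rg ρ (z j) ⊓ Rg ρ (f i) : Submodule F V) := Nat.le_of_mul_le_mul_left h1 hr.pos
    have h3 : Rg ρ (z j) ⊓ Rg ρ (f i) = Rg ρ (z j) := by
      apply Submodule.eq_of_le_of_finrank_le inf_le_left
      rw [finrank_Rg, (hz.isZ j).2, her]
      exact h2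
    exact inf_eq_left.mp h3
  -- a Sylow subgroup containing `g`
  obtain ⟨P, hPH, hPp, hgP, hPs⟩ : ∃ P : Subgroup Y, P ≤ H ∧ IsPGroup r P ∧ g ∈ P ∧
      ∃ h ∈ H, h * z j * h⁻¹ ∈ P := by
    have hz1 : IsPGroup r (Subgroup.zpowers (⟨g, hgH⟩ : H)) := by
      rintro ⟨_, i, rfl⟩
      refine ⟨1, Subtype.ext ?_⟩
      show ((⟨g, hgH⟩ : H) ^ i) ^ r ^ 1 = 1
      rw [pow_one, ← zpow_natCast, ← zpow_mul, mul_comm, zpow_mul, zpow_natCast]
      have h1 : (⟨g, hgH⟩ : H) ^ r = 1 := Subtype.ext hg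
      rw [h1, one_zpow]
    obtain ⟨Q, hQ⟩ := hz1.exists_le_sylow
    have hz2 : IsPGroup r (Subgroup.zpowers (⟨z j, hz.mem j⟩ : H)) := by
      rintro ⟨_, i, rfl⟩
      refine ⟨1, Subtype.ext ?_⟩
      show ((⟨z j, hz.mem j⟩ : H) ^ i) ^ r ^ 1 = 1
      rw [pow_one, ← zpow_natCast, ← zpow_mul, mul_comm, zpow_mul, zpow_natCast]
      have h1 : (⟨z j, hz.mem j⟩ : H) ^ r = 1 := Subtype.ext (hz.isZ j).1
      rw [h1, one_zpow]
    obtain ⟨h, hh⟩ := conj_into hr hz2 Q.not_dvd_index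
    refine ⟨(Q : Subgroup H).map H.subtype, Subgroup.map_subtype_le _, Q.2.map _,
      ⟨⟨g, hgH⟩, hQ (Subgroup.mem_zpowers _), rfl⟩, h, h.2, ?_⟩
    exact ⟨_, hh _ (Subgroup.mem_zpowers _), rfl⟩
  obtain ⟨h, hh, hzP⟩ := hPs
  obtain ⟨z', hz'⟩ : ∃ z', z' = h * z j * h⁻¹ := ⟨_, rfl⟩
  rw [← hz'] at hzP
  have hz'Z : IsZ ρ e r z' := by rw [hz']; exact (hz.isZ j).conj h
  have hz'le : Rg ρ z' ≤ Rg ρ (f i) := by
    rw [hz', Rg_conj]
    rintro _ ⟨w, hw, rfl⟩
    exact St_block C hr hrH hmin ht htH htr hm hf hh i w (hzle hw)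
  have hz'1 : z' ≠ 1 := by
    rintro rfl
    have h1 : rk ρ (1 : Y) = 0 := by rw [rk, map_one, sub_self, LinearMap.range_zero, finrank_bot]
    have h2 := hz'Z.2
    omega
  -- the fixed space of `f i` is stable
  have hconj : ∀ x ∈ P, ∃ l : ℕ, x * f i * x⁻¹ = f i ^ l := fun x hx =>
    norm_atom C.D C.hH ht (C.odd ht htH) htF hgen (hf.isZ i) (hf.mem i) (hPH hx)
      (St_block C hr hrH hmin ht htH htr hm hf (hPH hx) i)
  have hstF : ∀ x ∈ P, ∀ v, ρ (f i) v = v → ρ (f i) (ρ x v) = ρ x v := by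
    intro x hx v hv
    obtain ⟨l, hl⟩ := hconj x⁻¹ (P.inv_mem hx)
    have h1 : f i * x = x * f i ^ l := by rw [← hl]; group
    have h2 : ∀ n : ℕ, ρ (f i ^ n) v = v := by
      intro n
      induction n with
      | zero => rw [pow_zero, one_ap]
      | succ n ih => rw [pow_succ', mul_ap, ih, hv]
    rw [← mul_ap, h1, mul_ap, h2]
  have hstB : ∀ x ∈ P, ∀ w ∈ Rg ρ (f i), ρ x w ∈ Rg ρ (f i) := fun x hx =>
    St_block C hr hrH hmin ht htH htr hm hf (hPH hx) i
  -- the group of restrictions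
  let Θ : Subgroup Y :=
    { carrier := {y | ∃ x ∈ P, f i * x = x * f i ∧ (∀ w ∈ Rg ρ (f i), ρ y w = ρ x w) ∧ ∀ v, ρ (f i) v = v → ρ y v = v}
      mul_mem' := by
        rintro y y' ⟨x, hx, hxc, hy1, hy2⟩ ⟨x', hx', hxc', hy1', hy2'⟩
        refine ⟨x * x', P.mul_mem hx hx', ?_, fun v hv => ?_, fun v hv => ?_⟩
        · rw [← mul_assoc, hxc, mul_assoc, hxc', mul_assoc]
        · rw [mul_ap, mul_ap, hy1' v hv, hy1 _ (hstB x' hx' v hv)]
        · rw [mul_ap, hy2' v hv, hy2 v hv]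
      one_mem' := ⟨1, P.one_mem, by rw [mul_one, one_mul], fun v _ => rfl, fun v _ => one_ap ρ v⟩
      inv_mem' := by
        rintro y ⟨x, hx, hxc, hy1, hy2⟩
        refine ⟨x⁻¹, P.inv_mem hx, ((show Commute (f i) x from hxc).inv_right).eq, fun v hv => ?_, fun v hv => ?_⟩
        · have h4 := hy1 _ (hstB x⁻¹ (P.inv_mem hx) v hv)
          rw [ap_inv] at h4
          conv_lhs => rw [← h4]
          rw [inv_ap]
        · conv_lhs => rw [← hy2 v hv]
          rw [inv_ap] }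
  have hΘp : IsPGroup r Θ := by
    rintro ⟨y, x, hx, hxc, hy1, hy2⟩
    obtain ⟨k, hk⟩ := hPp ⟨x, hx⟩
    have hk' : x ^ r ^ k = 1 := congrArg Subtype.val hk
    refine ⟨k, Subtype.ext ?_⟩
    show y ^ r ^ k = 1
    apply C.D.row.inj
    rw [map_one]
    ext v
    obtain ⟨b, hb, c, hcf, rfl⟩ := exists_decomp htF (hf.isZ i).1 v
    have h3 : ∀ n : ℕ, ρ (y ^ n) b = ρ (x ^ n) b ∧ ρ (x ^ n) b ∈ Rg ρ (f i) := by
      intro n
      induction n with
      | zero => rw [pow_zero, pow_zero]; exact ⟨rfl, by rw [one_ap]; exact hb⟩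
      | succ n ih =>
        rw [pow_succ', mul_ap, ih.1, hy1 _ ih.2, pow_succ', mul_ap]
        exact ⟨rfl, hstB x hx _ ih.2⟩
    have h4 : ∀ n : ℕ, ρ (y ^ n) c = c := by
      intro n
      induction n with
      | zero => rw [pow_zero, one_ap]
      | succ n ih => rw [pow_succ', mul_ap, ih, hy2 c hcf]
    rw [map_add, (h3 _).1, h4, hk', one_ap]
    rfl
  have hn : P ≤ Subgroup.normalizer (Θ : Set Y) := by
    intro p hp
    apply mem_normalizer_of_conj_le
    rintro y ⟨x, hx, hxc, hy1, hy2⟩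
    have hpx : p * x * p⁻¹ ∈ P := P.mul_mem (P.mul_mem hp hx) (P.inv_mem hp)
    refine ⟨p * x * p⁻¹, hpx, ?_, fun v hv => ?_, fun v hv => ?_⟩
    · -- `p⁻¹ f p` is a power of `f`
      obtain ⟨l, hl⟩ := hconj p⁻¹ (P.inv_mem hp)
      rw [inv_inv] at hl
      have h1 : (p⁻¹ * f i * p) * x = x * (p⁻¹ * f i * p) := by
        rw [hl]; exact ((show Commute (f i) x from hxc).pow_left l).eq
      calc f i * (p * x * p⁻¹) = p * ((p⁻¹ * f i * p) * x) * p⁻¹ := by group
        _ = p * (x * (p⁻¹ * f i * p)) * p⁻¹ := by rw [h1]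
        _ = p * x * p⁻¹ * f i := by group
    · rw [mul_ap, mul_ap, mul_ap, mul_ap, hy1 _ (hstB p⁻¹ (P.inv_mem hp) v hv)]
    · rw [mul_ap, mul_ap, hy2 _ (hstF p⁻¹ (P.inv_mem hp) v hv), ap_inv]
  have hΘ1 : Θ ≠ ⊥ := by
    intro hbot
    obtain ⟨x', h1, h2⟩ := C.D.rc t (f i) g htF (hf.isZ i).1 hgc
    have h3 : x' ∈ Θ := ⟨g, hgP, hgc, h1, h2⟩
    rw [hbot, Subgroup.mem_bot] at h3
    apply hcon
    intro w hw
    rw [← h1 w hw, h3, one_ap]
  obtain ⟨c, hcΘ, hc1, hcr, hcc⟩ := exists_central hr hPp hΘp hn hΘ1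
  obtain ⟨x, hx, hxc, hy1, hy2⟩ := hcΘ
  -- `Rg c ≤ Rg (f i)`
  have hcle : Rg ρ c ≤ Rg ρ (f i) := by
    intro w hw
    obtain ⟨v, rfl⟩ := mem_Rg.mp hw
    obtain ⟨b, hb, c', hcf, rfl⟩ := exists_decomp htF (hf.isZ i).1 v
    have h4 : ρ c (b + c') - (b + c') = ρ x b - b := by
      rw [map_add, hy1 b hb, hy2 c' hcf]; abel
    rw [h4]
    exact Submodule.sub_mem _ (hstB x hx b hb) hb
  -- `c` commutes with `f i`
  have hcf : f i * c = c * f i := by
    apply C.D.row.inj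
    ext v
    obtain ⟨b, hb, c', hcf, rfl⟩ := exists_decomp htF (hf.isZ i).1 v
    rw [mul_ap, mul_ap, map_add, map_add, map_add, map_add, hy1 b hb, hy2 c' hcf, hcf, hy2 c' hcf,
      hy1 _ (map_Rg hb), ← mul_ap, hxc, mul_ap]
  have hcfree : ∀ w ∈ Rg ρ (f i), ρ c w = w → w = 0 := by
    rcases dicho C.D ht (C.odd ht htH) htF (hf.isZ i) hcf hrF hcr with h | h
    · exfalso
      apply hc1
      apply C.D.row.inj
      rw [map_one]
      ext v
      obtain ⟨b, hb, c', hcf', rfl⟩ := exists_decomp htF (hf.isZ i).1 v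
      rw [map_add, h b hb, hy2 c' hcf']
      rfl
    · exact h
  have hcge : Rg ρ (f i) ≤ Rg ρ c := le_Rg_of_free (fun w hw => by
    rw [hy1 w hw]; exact hstB x hx w hw) hcfree
  -- the contradiction
  obtain ⟨l, hl⟩ := cyc C.D.row hr (C.odd hr hrH) hrF (x := z') (c := c) hz'Z.1 hz'1 hcr (hcc z' hzP).symm (by
    have h1 : CV ρ (Subgroup.closure {z', c}) ≤ Rg ρ (f i) := by
      refine CV_closure_le ?_
      intro y hy
      simp only [Set.mem_insert_iff, Set.mem_singleton_iff] at hy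
      rcases hy with rfl | rfl
      · exact hz'le
      · exact hcle
    have h2 := Submodule.finrank_mono h1
    rw [hdW] at h2
    rw [her]
    omega)
  have h1 : Rg ρ (f i) ≤ Rg ρ z' := hcge.trans (by rw [hl]; exact Rg_pow_le z' l)
  have h2 := Submodule.finrank_mono h1
  rw [hdW, finrank_Rg, hz'Z.2, her] at h2
  omega

end Cfsg.Agent.H479.RM
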